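import Cfsg.Agent.H145.RankOne
import Cfsg.Agent.Characters.Clifford
import Cfsg.Agent.Characters.DegreeBounds
import Cfsg.Agent.Blocks.Deflate
import Cfsg.Agent.S0887
import Cfsg.Prelude.Def_DegreeGraph

/-!
# Five character degrees of an almost simple group with rank one structure

(helper145, for S4898.)
-/

set_option autoImplicit false

namespace Cfsg.Agent.H145.AlmostR1

open Cfsg Cfsg.Agent.Characters.Core Cfsg.Agent.H145.RankOne
open scoped ComplexConjugate

universe u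

variable {G : Type u} [Group G] [Fintype G]

/-- The average over a subgroup `U` of a function on `M ≥ U`. -/
noncomputable def avg {M U : Subgroup G} (hU : U ≤ M) (φ : M → ℂ) : ℂ :=
  (Nat.card U : ℂ)⁻¹ * ∑ᶠ u : U, φ ⟨u, hU u.2⟩

omit [Fintype G] in
theorem avg_eq {M U : Subgroup G} (hU : U ≤ M) [Fintype U] (φ : M → ℂ) :
    avg hU φ = (Nat.card U : ℂ)⁻¹ * ∑ u : U, φ ⟨u, hU u.2⟩ := by
  rw [avg, finsum_eq_sum_of_fintype]

theorem avg_restrict {M U : Subgroup G} (hU : U ≤ M) [Fintype U] (X : G → ℂ) :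
    avg hU (fun n : M => X n) = classInner (X ∘ U.subtype) 1 := by
  rw [avg_eq, classInner_def]
  congr 1
  refine Finset.sum_congr rfl fun u _ => ?_
  simp

theorem avg_sum {M U : Subgroup G} (hU : U ≤ M) {ι : Type*} (s : Finset ι) (m : ι → ℕ) (φ : ι → M → ℂ) :
    avg hU (∑ i ∈ s, m i • φ i) = ∑ i ∈ s, m i * avg hU (φ i) := by
  classical
  have : Fintype U := Fintype.ofFinite U
  simp only [avg_eq, Finset.sum_apply, Pi.smul_apply]
  simp only [nsmul_eq_mul]
  rw [Finset.sum_comm, Finset.mul_sum]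
  refine Finset.sum_congr rfl fun i _ => ?_
  rw [← Finset.mul_sum]
  ring

/-- The average of a conjugate. -/
theorem avg_conj {M U : Subgroup G} [M.Normal] (hU : U ≤ M)
    (hfr : ∀ g : G, ∃ m ∈ M, ∃ h ∈ Subgroup.normalizer (U : Set G), g = m * h) {χ : M → ℂ} (hχ : IsClassFunction M χ) (g : G) :
    avg hU (χ ∘ (MulAut.conjNormal g : MulAut M)) = avg hU χ := by
  classical
  have : Fintype U := Fintype.ofFinite U
  obtain ⟨m, hm, h, hh, rfl⟩ := hfr g
  rw [avg_eq, avg_eq]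
  congr 1
  have hn : ∀ u : U, h * (u : G) * h⁻¹ ∈ U := fun u => (Subgroup.mem_normalizer_iff.1 hh u).1 u.2
  have hn' : ∀ u : U, h⁻¹ * (u : G) * h ∈ U := fun u => by
    have := (Subgroup.mem_normalizer_iff.1 ((Subgroup.normalizer (U : Set G)).inv_mem hh) u).1 u.2
    simpa using this
  refine Fintype.sum_equiv
    { toFun := fun u : U => (⟨h * u * h⁻¹, hn u⟩ : U)
      invFun := fun u : U => (⟨h⁻¹ * u * h, hn' u⟩ : U)
      left_inv := fun u => Subtype.ext (by simp [mul_assoc])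
      right_inv := fun u => Subtype.ext (by simp [mul_assoc]) } _ _ fun u => ?_
  rw [← isClassFunction_def.1 hχ _ ⟨m, hm⟩]
  rw [Function.comp_apply]
  congr 1
  apply Subtype.ext
  rw [MulAut.conjNormal_apply]
  simp [mul_assoc]

/-- **The degree of a character over `χ₀`.** -/
theorem over_degree {M U : Subgroup G} [M.Normal] [Fintype M] [Fintype U] (hU : U ≤ M)
    (hfr : ∀ g : G, ∃ m ∈ M, ∃ h ∈ Subgroup.normalizer (U : Set G), g = m * h) {χ₀ : M → ℂ} (h0 : IsIrrCharacter M χ₀)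
    {b : ℂ} (hb : χ₀ 1 = b) (ha : avg hU χ₀ = 1) {X : G → ℂ} (hX : IsIrrCharacter G X)
    (hc : classInner (fun n : M => X n) χ₀ ≠ 0) : X 1 = b * classInner (X ∘ U.subtype) 1 := by
  classical
  have : Fintype (IrrCharacter M) := by
    have := finite_irr (G := M)
    exact Fintype.ofFinite _
  have hres := Cfsg.Agent.Characters.Clifford.isCharacter_restrict M (isIrr_isCharacter hX)
  obtain ⟨m, hm⟩ := exists_nat_comb hres
  have h1 : ∀ ψ : IrrCharacter M, (m ψ : ℂ) * (ψ : M → ℂ) 1 = (m ψ : ℂ) * (b * avg hU (ψ : M → ℂ)) := by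
    intro ψ
    by_cases hψ : m ψ = 0
    · rw [hψ]; simp
    · have h2 : classInner (fun n : M => X n) (ψ : M → ℂ) ≠ 0 := by
        rw [hm, classInner_sum_nsmul_irr]
        exact_mod_cast hψ
      obtain ⟨g, hg⟩ := Cfsg.Agent.Characters.Clifford.exists_conj_of_constituents M hX h0 ψ.2 hc h2
      rw [hg, avg_conj hU hfr (isIrr_isClassFunction h0) g, ha, mul_one, Function.comp_apply, map_one, hb]
  have h2 : X 1 = ∑ ψ : IrrCharacter M, (m ψ : ℂ) * (ψ : M → ℂ) 1 := by
    have h3 := congrFun hm 1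
    simp only [Finset.sum_apply, Pi.smul_apply] at h3
    simp only [nsmul_eq_mul] at h3
    rw [← h3]
    simp
  rw [h2, ← avg_restrict hU, hm, avg_sum, Finset.mul_sum, Finset.sum_congr rfl (fun ψ _ => h1 ψ)]
  refine Finset.sum_congr rfl fun ψ _ => ?_
  ring

/-- **A constituent on `H` trivial on `U`.** -/
theorem exists_psi {H U : Subgroup G} [Fintype U] (hUH : U ≤ H) (hn : (U.subgroupOf H).Normal)
    {X : G → ℂ} (hX : IsIrrCharacter G X) (hc : classInner (X ∘ U.subtype) 1 ≠ 0) :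
    ∃ ψ' : IrrCharacter (H ⧸ U.subgroupOf H), IsIrrCharacter H ((ψ' : H ⧸ U.subgroupOf H → ℂ) ∘ QuotientGroup.mk) ∧
      classInner (indFun H ((ψ' : H ⧸ U.subgroupOf H → ℂ) ∘ QuotientGroup.mk)) X ≠ 0 := by
  classical
  have : Fintype H := Fintype.ofFinite H
  have : Fintype (IrrCharacter H) := by
    have := finite_irr (G := H)
    exact Fintype.ofFinite _
  have hres := Cfsg.Agent.Characters.Clifford.isCharacter_restrict H (isIrr_isCharacter hX)
  obtain ⟨m, hm⟩ := exists_nat_comb hres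
  have h1 : ∃ ψ : IrrCharacter H, m ψ ≠ 0 ∧ avg hUH (ψ : H → ℂ) ≠ 0 := by
    by_contra hcon
    push Not at hcon
    apply hc
    rw [← avg_restrict hUH, hm, avg_sum]
    refine Finset.sum_eq_zero fun ψ _ => ?_
    by_cases hψ : m ψ = 0
    · rw [hψ]; simp
    · rw [hcon ψ hψ, mul_zero]
  obtain ⟨ψ, hψ, ha⟩ := h1
  have : Fintype (U.subgroupOf H) := Fintype.ofFinite _
  obtain ⟨ψ', hψ'⟩ := Cfsg.Agent.Blocks.Deflate.exists_deflation (U.subgroupOf H) (ψ : H → ℂ) ψ.2 (by
    intro h2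
    apply ha
    rw [avg_eq]
    have h3 : ∑ u : U, (ψ : H → ℂ) ⟨u, hUH u.2⟩ = ∑ n : U.subgroupOf H, (ψ : H → ℂ) n := by
      refine Fintype.sum_equiv (Subgroup.subgroupOfEquivOfLe hUH).symm.toEquiv _ _ fun u => ?_
      rfl
    rw [h3, h2, mul_zero])
  refine ⟨ψ', ?_, ?_⟩
  · rw [← hψ']; exact ψ.2
  · rw [← hψ', Cfsg.Agent.OddOrderCharacters.Clifford.classInner_indFun H _ _ (isIrr_isClassFunction hX)]
    intro h2
    have h3 : classInner (fun n : H => X n) (ψ : H → ℂ) = 0 := by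
      rw [← classInner_conj_symm, h2, map_zero]
    rw [hm, classInner_sum_nsmul_irr] at h3
    exact hψ (by exact_mod_cast h3)

/-- The degree bound. -/
theorem degree_le {H : Type*} [Group H] [Finite H] (N C : Subgroup H) [N.Normal]
    (hcomm : ∀ x ∈ C, ∀ y ∈ C, x * y * x⁻¹ * y⁻¹ ∈ N) (ψ' : IrrCharacter (H ⧸ N)) {n : ℕ}
    (hn : (ψ' : H ⧸ N → ℂ) 1 = n) : n ≤ C.index := by
  obtain ⟨d, ρ, hρ, hχ⟩ := ψ'.2
  have hd : (ψ' : H ⧸ N → ℂ) 1 = d := by
    rw [← hχ, Representation.char_one]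
    simp
  have h1 : n = d := by
    rw [hn] at hd
    exact_mod_cast hd
  have h2 := Cfsg.Agent.Characters.DegreeBounds.finrank_le_index_of_comm ρ (C.map (QuotientGroup.mk' N)) (by
    rintro _ ⟨x, hx, rfl⟩ _ ⟨y, hy, rfl⟩
    rw [← map_mul, ← map_mul, QuotientGroup.mk'_eq_mk']
    refine ⟨(x * y)⁻¹ * (y * x), ?_, by group⟩
    have h3 := hcomm y⁻¹ (C.inv_mem hy) x⁻¹ (C.inv_mem hx)
    have h4 : (x * y)⁻¹ * (y * x) = y⁻¹ * x⁻¹ * y⁻¹⁻¹ * x⁻¹⁻¹ := by group
    rw [h4]
    exact h3)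
  have h3 : (C.map (QuotientGroup.mk' N)).index ∣ C.index :=
    Subgroup.index_map_dvd _ (QuotientGroup.mk'_surjective N)
  have h4 := Nat.le_of_dvd (Nat.pos_of_ne_zero Subgroup.index_ne_zero_of_finite) h3
  rw [h1]
  have h5 : Module.finrank ℂ (Fin d → ℂ) = d := by simp
  rw [h5] at h2
  exact h2.trans h4

omit [Fintype G] in
theorem mem_charDegrees {χ : G → ℂ} (hχ : IsIrrCharacter G χ) {n : ℕ} (hn : χ 1 = n) : n ∈ charDegrees G := by
  refine ⟨⟨χ, hχ⟩, ?_⟩
  change charDegree χ = n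
  rw [charDegree, hn]
  simp

theorem finite_charDegrees : (charDegrees G).Finite := by
  have := finite_irr (G := G)
  have h : charDegrees G = Set.range (fun χ : IrrCharacter G => charDegree (χ : G → ℂ)) := by
    ext d
    simp [charDegrees]
  rw [h]
  exact Set.finite_range _

/-- An irreducible character over a given one of a normal subgroup. -/
theorem exists_over {M : Subgroup G} [Fintype M] {χ₀ : M → ℂ} (h0 : IsIrrCharacter M χ₀) :
    ∃ X : G → ℂ, IsIrrCharacter G X ∧ classInner (fun n : M => X n) χ₀ ≠ 0 := by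
  classical
  have h1 := Cfsg.Agent.CharactersDeep.IndFun.isCharacter_indFun M (isIrr_isCharacter h0)
  have h2 : indFun M χ₀ ≠ 0 := by
    intro h2
    have h3 := congrFun h2 1
    rw [Cfsg.Agent.OddOrderCharacters.InertiaAbelian.indFun_one, Pi.zero_apply, mul_eq_zero] at h3
    rcases h3 with h3 | h3
    · exact (Nat.cast_ne_zero.2 (Subgroup.index_ne_zero_of_finite (H := M))) h3
    · exact isIrr_apply_one_ne_zero h0 h3
  obtain ⟨X, hX, hc⟩ := Cfsg.Agent.H113.NormTwoChar.exists_constituent h1 h2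
  refine ⟨X, hX, ?_⟩
  rw [Cfsg.Agent.OddOrderCharacters.Clifford.classInner_indFun M _ _ (isIrr_isClassFunction hX)] at hc
  intro h3
  apply hc
  rw [← classInner_conj_symm, h3, map_zero]

/-- the arithmetic -/
theorem arith {q b v t : ℕ} (hq : 3 ≤ q) (hb : b = q * (q - 1) + 1) (hv1 : 1 ≤ v) (hvq : v ≤ q) (ht : 1 ≤ t) :
    ({1, q ^ 3, b * v, b * v * q, t * ((q + 1) * b)} : Finset ℕ).card = 5 := by
  have hb7 : 7 ≤ b := by
    rw [hb]
    have : 3 * 2 ≤ q * (q - 1) := Nat.mul_le_mul hq (by omega)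
    omega
  have hcop : Nat.Coprime b (q ^ 3) := by
    apply Nat.Coprime.pow_right
    rw [hb, Nat.coprime_iff_gcd_eq_one, Nat.gcd_comm]
    simp
  have hb1 : ∀ k, b * k ≠ q ^ 3 := by
    intro k hk
    have h1 : b ∣ q ^ 3 := ⟨k, hk.symm⟩
    have h2 := Nat.eq_one_of_dvd_coprimes hcop (dvd_refl b) h1
    omega
  have hq3 : 27 ≤ q ^ 3 := by
    have := Nat.pow_le_pow_left hq 3
    omega
  have hcop2 : Nat.Coprime (q + 1) q := by simp
  have h34 : b * v ≠ b * v * q := by
    intro h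
    have h1 : 0 < b * v := by positivity
    have h2 : b * v * 1 = b * v * q := by rw [mul_one]; exact h
    have := Nat.eq_of_mul_eq_mul_left h1 h2
    omega
  have h35 : b * v ≠ t * ((q + 1) * b) := by
    intro h
    have h1 : b * v = b * (t * (q + 1)) := by rw [h]; ring
    have h2 := Nat.eq_of_mul_eq_mul_left (by omega) h1
    have h3 : 1 * (q + 1) ≤ t * (q + 1) := Nat.mul_le_mul_right _ ht
    omega
  have h45 : b * v * q ≠ t * ((q + 1) * b) := by
    intro h
    have h1 : b * (v * q) = b * (t * (q + 1)) := by rw [← mul_assoc, h]; ring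
    have h2 := Nat.eq_of_mul_eq_mul_left (by omega) h1
    have h3 : (q + 1) ∣ v * q := ⟨t, by rw [h2]; ring⟩
    have h4 := hcop2.dvd_of_dvd_mul_right h3
    have h5 := Nat.le_of_dvd (by omega) h4
    omega
  have h1a : b * v ≠ 1 := by
    intro h
    have : b * 1 ≤ b * v := Nat.mul_le_mul_left _ hv1
    omega
  have h1b : b * v * q ≠ 1 := by
    intro h
    have : b * 1 ≤ b * v := Nat.mul_le_mul_left _ hv1
    have : b * v * 1 ≤ b * v * q := Nat.mul_le_mul_left _ (by omega)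
    omega
  have h1c : t * ((q + 1) * b) ≠ 1 := by
    intro h
    have h1 := Nat.eq_one_of_mul_eq_one_left h
    have h2 := Nat.eq_one_of_mul_eq_one_left h1
    omega
  have h23 : q ^ 3 ≠ b * v := fun h => hb1 v h.symm
  have h24 : q ^ 3 ≠ b * v * q := fun h => hb1 (v * q) (by rw [← mul_assoc]; exact h.symm)
  have h25 : q ^ 3 ≠ t * ((q + 1) * b) := fun h => hb1 (t * (q + 1)) (by rw [h]; ring)
  rw [Finset.card_insert_of_notMem, Finset.card_insert_of_notMem, Finset.card_insert_of_notMem,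
    Finset.card_insert_of_notMem, Finset.card_singleton]
  · rw [Finset.mem_singleton]; exact h45
  · rw [Finset.mem_insert, Finset.mem_singleton]; push Not; exact ⟨h34, h35⟩
  · rw [Finset.mem_insert, Finset.mem_insert, Finset.mem_singleton]; push Not; exact ⟨h23, h24, h25⟩
  · rw [Finset.mem_insert, Finset.mem_insert, Finset.mem_insert, Finset.mem_singleton]; push Not
    exact ⟨by omega, h1a.symm, h1b.symm, h1c.symm⟩

/-- **Five degrees.** -/
theorem five {M H U C : Subgroup G} [hMn : M.Normal] (D : R1 H U) (hUM : U ≤ M) (hH : H ≤ Subgroup.normalizer (U : Set G))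
    (hfr : ∀ g : G, ∃ m ∈ M, ∃ h ∈ H, g = m * h) {q : ℕ} (hq : 3 ≤ q) (hcU : Nat.card U = q ^ 3)
    {χ₀ ζ : M → ℂ} (h0 : IsIrrCharacter M χ₀) (h01 : χ₀ 1 = (q : ℂ) ^ 2 - q + 1) (h0a : avg hUM χ₀ = 1)
    (hζ : IsIrrCharacter M ζ) (hζ1 : ζ 1 = (q : ℂ) ^ 3 + 1)
    (hcomm : ∀ x ∈ C, ∀ y ∈ C, x * y * x⁻¹ * y⁻¹ ∈ U) (hidx : (C.subgroupOf H).index ≤ q) :
    5 ≤ (charDegrees G).ncard := by
  classical
  have : Fintype U := Fintype.ofFinite U
  have : Fintype M := Fintype.ofFinite M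
  have hnorm : (U.subgroupOf H).Normal := by
    refine ⟨fun n hn h => ?_⟩
    rw [Subgroup.mem_subgroupOf] at hn ⊢
    exact (Subgroup.mem_normalizer_iff.1 (hH h.2) n).1 hn
  set b : ℕ := q * (q - 1) + 1 with hb
  have hbC : ((b : ℕ) : ℂ) = (q : ℂ) ^ 2 - q + 1 := by
    rw [hb]
    push_cast [Nat.cast_sub (show 1 ≤ q by omega)]; ring
  have hb0 : (b : ℂ) ≠ 0 := Nat.cast_ne_zero.2 (by omega)
  -- the degree `q³`
  obtain ⟨Y₀, hY₀, hY₀1⟩ := D.exists_stein
  have hd2 : q ^ 3 ∈ charDegrees G := mem_charDegrees hY₀ (by rw [hY₀1, hcU])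
  have hd1 : 1 ∈ charDegrees G := mem_charDegrees isIrr_one (by simp)
  -- the character over `χ₀`
  obtain ⟨X, hX, hXc⟩ := exists_over h0
  obtain ⟨x, hx0, hx⟩ := isIrr_apply_one hX
  have hX1 := over_degree hUM (fun g => by
    obtain ⟨m, hm, h, hh, e⟩ := hfr g
    exact ⟨m, hm, h, hH hh, e⟩) h0 h01 h0a hX hXc
  have hmult : classInner (X ∘ U.subtype) 1 ≠ 0 := by
    intro h
    rw [h, mul_zero, hx] at hX1
    exact (Nat.cast_ne_zero.2 hx0.ne') hX1
  obtain ⟨ψ', hψ, hψc⟩ := exists_psi D.le hnorm hX hmult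
  set ψ : H → ℂ := (ψ' : H ⧸ U.subgroupOf H → ℂ) ∘ QuotientGroup.mk with hψdef
  obtain ⟨v, hv0, hv⟩ := isIrr_apply_one hψ
  have hψU : ∀ (u : G) (hu : u ∈ U), ψ ⟨u, D.le hu⟩ = ψ 1 := by
    intro u hu
    have h1 : (QuotientGroup.mk (⟨u, D.le hu⟩ : H) : H ⧸ U.subgroupOf H) = QuotientGroup.mk (1 : H) := by
      rw [QuotientGroup.mk_one, QuotientGroup.eq_one_iff, Subgroup.mem_subgroupOf]
      exact hu
    rw [hψdef, Function.comp_apply, Function.comp_apply, h1]
  have hvq : v ≤ q := by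
    refine (degree_le (U.subgroupOf H) (C.subgroupOf H) ?_ ψ' ?_).trans hidx
    · intro x hx y hy
      rw [Subgroup.mem_subgroupOf] at hx hy ⊢
      exact hcomm _ hx _ hy
    · rw [← hv]; rfl
  -- the second character
  have hd34 : b * v ∈ charDegrees G ∧ b * v * q ∈ charDegrees G := by
    rcases D.dichotomy hψ hψU hX hψc with h | ⟨Y, hY, hsum, hm⟩
    · exfalso
      rw [← h] at hψc
      have h1 := D.inner_U (isIrr_isClassFunction hψ) hψU
      have h2 := D.ind_one ψ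
      rw [← h] at h1 h2
      rw [h1, h2, hcU, hv] at hX1
      have h3 : ((q ^ 3 + 1) * v : ℕ) = ((b * (2 * v) : ℕ)) := by
        have : (((q ^ 3 + 1) * v : ℕ) : ℂ) = ((b * (2 * v) : ℕ) : ℂ) := by
          push_cast [hbC]
          push_cast at hX1
          exact hX1
        exact_mod_cast this
      have h4 : (q + 1) * b = q ^ 3 + 1 := by
        have : (((q + 1) * b : ℕ) : ℂ) = ((q ^ 3 + 1 : ℕ) : ℂ) := by
          push_cast [hbC]
          ring
        exact_mod_cast this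
      rw [← h4] at h3
      have h5 : (b * v) * (q + 1) = (b * v) * 2 := by linarith
      have h6 := Nat.eq_of_mul_eq_mul_left (by positivity) h5
      omega
    · rw [hm, hv, ← hbC] at hX1
      refine ⟨mem_charDegrees hX (by rw [hX1]; push_cast; ring), mem_charDegrees hY ?_⟩
      have h2 := D.ind_one ψ
      rw [hsum, Pi.add_apply, hX1, hcU, hv] at h2
      push_cast [hbC] at h2 ⊢
      linear_combination h2
  -- the character over `ζ`
  obtain ⟨Z, hZ, hZc⟩ := exists_over hζ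
  obtain ⟨z, hz0, hz⟩ := isIrr_apply_one hZ
  have hdvd := S0887.result M Z hZ ζ hζ hZc z (q ^ 3 + 1) hz (by rw [hζ1]; push_cast; ring)
  obtain ⟨t, ht⟩ := hdvd.1
  have hbq : (q + 1) * b = q ^ 3 + 1 := by
    have : (((q + 1) * b : ℕ) : ℂ) = ((q ^ 3 + 1 : ℕ) : ℂ) := by
      push_cast [hbC]
      ring
    exact_mod_cast this
  have ht1 : 1 ≤ t := by
    rcases Nat.eq_zero_or_pos t with h | h
    · rw [h, mul_zero] at ht
      omega
    · exact h
  have hd5 : t * ((q + 1) * b) ∈ charDegrees G := by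
    rw [hbq, mul_comm, ← ht]
    exact mem_charDegrees hZ hz
  have hcard := arith hq hb hv0 hvq ht1
  rw [← hcard, ← Set.ncard_coe_finset]
  apply Set.ncard_le_ncard _ finite_charDegrees
  intro d hd
  simp only [Finset.coe_insert, Finset.coe_singleton, Set.mem_insert_iff, Set.mem_singleton_iff] at hd
  rcases hd with rfl | rfl | rfl | rfl | rfl
  · exact hd1
  · exact hd2
  · exact hd34.1
  · exact hd34.2
  · exact hd5

end Cfsg.Agent.H145.AlmostR1
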