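import Cfsg.Agent.H145.U3Geo
import Cfsg.Agent.Lib.FieldAutCard

/-!
# Five character degrees of almost simple groups with socle `PSU₃(q)`, `q ≥ 3`

(helper145, for S4898.)
-/

set_option autoImplicit false

namespace Cfsg.Agent.H145.FivePSU3

open Matrix Cfsg Cfsg.Agent.Characters.Core
  Cfsg.Agent.LieClassical.HermBasic Cfsg.Agent.LieClassical.HermSiegel Cfsg.Agent.LieClassical.HermGen
  Cfsg.Agent.ClassicalGeometry.PSUAutBasic Cfsg.Agent.H145.U3Geo Cfsg.Agent.H145.AlmostR1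

universe u

variable {G : Type u} [Group G]

/-- The projection to the socle. -/
noncomputable def pi {M : Subgroup G} {F : Type} [Field F] {q : ℕ} (e : M ≃* Cfsg.PSU 3 F q) : SU 3 F q →* G :=
  M.subtype.comp (e.symm.toMonoidHom.comp (QuotientGroup.mk' (Subgroup.center (SU 3 F q))))

theorem pi_apply {M : Subgroup G} {F : Type} [Field F] {q : ℕ} (e : M ≃* Cfsg.PSU 3 F q) (s : SU 3 F q) :
    pi e s = (e.symm (QuotientGroup.mk s) : M) := rfl

theorem sit {M : Subgroup G} [hM : M.Normal] (hc : Subgroup.centralizer (M : Set G) = ⊥)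
    {F : Type} [Field F] [Fintype F] {q : ℕ} (hF : Fintype.card F = q ^ 2) (hq : 3 ≤ q) (e : M ≃* Cfsg.PSU 3 F q) :
    Sit (pi e) where
  ker := by
    intro s
    rw [pi_apply, OneMemClass.coe_eq_one, MulEquiv.map_eq_one_iff, QuotientGroup.eq_one_iff]
  ind := by
    intro g
    obtain ⟨A, ρ, h⟩ := Cfsg.Agent.ClassicalGeometry.PSUAutMain.exists_toAut hF le_rfl
      (by rintro ⟨-, rfl⟩; omega) ((e.symm.trans (MulAut.conjNormal g : MulAut M)).trans e : MulAut (PSU 3 F q))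
    refine ⟨A, ρ, fun s => ?_⟩
    have h1 : e ((MulAut.conjNormal g : MulAut M) (e.symm (QuotientGroup.mk s))) =
        (QuotientGroup.mk (Cfsg.Agent.ClassicalGeometry.PSUAutCount.semiConj A ρ s) : PSU 3 F q) := by
      have h2 := DFunLike.congr_fun h (QuotientGroup.mk s : PSU 3 F q)
      exact h2
    rw [pi_apply, pi_apply, ← h1, MulEquiv.symm_apply_apply, MulAut.conjNormal_apply]
  cent := by
    intro g hg
    rw [← Subgroup.mem_bot, ← hc, Subgroup.mem_centralizer_iff]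
    intro m hm
    obtain ⟨s, hs⟩ := QuotientGroup.mk_surjective (e ⟨m, hm⟩)
    have h1 : pi e s = m := by
      rw [pi_apply, hs, MulEquiv.symm_apply_apply]
    rw [← h1]
    exact (hg s).symm

theorem card_aut_le {F : Type} [Field F] [Fintype F] {q : ℕ} (hF : Fintype.card F = q ^ 2) :
    Nat.card (F ≃+* F) ≤ q := by
  obtain ⟨p, k, hp, -, hk, hk0⟩ := exists_prime_pow hF
  have := Fact.mk hp
  rw [Cfsg.Agent.Lib.FieldAutCard.card_ringAut (p := p) (f := 2 * k) (by omega) (by rw [hF, hk, ← pow_mul, mul_comm])]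
  rw [hk]
  have h1 : 2 ^ k ≤ p ^ k := Nat.pow_le_pow_left hp.two_le k
  have h2 : ∀ n : ℕ, 0 < n → 2 * n ≤ 2 ^ n := by
    intro n hn
    induction n with
    | zero => omega
    | succ n ih =>
      rcases Nat.eq_zero_or_pos n with h | h
      · subst h; norm_num
      · have := ih h
        rw [pow_succ]; omega
  exact (h2 k hk0).trans h1

/-- **Task 544.** -/
theorem five_psu3 {G : Type u} [Group G] [Finite G] (M : Subgroup G) (hM : M.Normal)
    (hc : Subgroup.centralizer (M : Set G) = ⊥)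
    (F : Type) [Field F] [Fintype F] (q : ℕ) (hF : Fintype.card F = q ^ 2) (hq : 3 ≤ q)
    (e : Nonempty (M ≃* Cfsg.PSU 3 F q)) : 5 ≤ (Cfsg.charDegrees G).ncard := by
  classical
  have : Fintype G := Fintype.ofFinite G
  have : Fintype M := Fintype.ofFinite M
  obtain ⟨e⟩ := e
  have S := sit hc hF hq e
  obtain ⟨v, w, H⟩ := exists_frame (F := F) (q := q) (n := 3) hF (by norm_num)
  have : Fintype (siegG hF v H.ee) := Fintype.ofFinite _
  obtain ⟨η, hη, hη1, hηU⟩ := U3Psu.exists_eta hF hq H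
  obtain ⟨ζ, hζ, hζ1⟩ := U3Psu.exists_zeta (F := F) hF hq
  have hUM : Sit.UU (pi e) hF H ≤ M := by
    rintro _ ⟨s, -, rfl⟩
    exact (e.symm (QuotientGroup.mk s) : M).2
  have : Fintype (Sit.UU (pi e) hF H) := Fintype.ofFinite _
  refine five (C := Sit.CC (pi e) ⊓ Sit.HH (pi e) hF H) (χ₀ := η ∘ e.toMonoidHom) (ζ := ζ ∘ e.toMonoidHom)
    (S.r1 hF H) hUM le_rfl ?_ hq (S.card_UU hF H) (isIrr_comp _ e.surjective hη) ?_ ?_
    (isIrr_comp _ e.surjective hζ) ?_ (fun x hx y hy => S.comm_mem hF H hx hy) ?_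
  · intro g
    obtain ⟨s, h, hh, hg⟩ := S.frattini hF H g
    exact ⟨pi e s, (e.symm (QuotientGroup.mk s) : M).2, h, hh, hg⟩
  · rw [Function.comp_apply, map_one, hη1]
  · rw [avg_eq, ← hηU, classInner_def]
    have hcard : Nat.card (Sit.UU (pi e) hF H) = Nat.card (siegG hF v H.ee) := by
      rw [S.card_UU hF H, Cfsg.Agent.H618.InvPSU3.card_U hF H]
    rw [hcard]
    congr 1
    symm
    refine Fintype.sum_bijective (fun s : siegG hF v H.ee => (⟨pi e s, ⟨s, s.2, rfl⟩⟩ : Sit.UU (pi e) hF H)) ⟨?_, ?_⟩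
      _ _ fun s => ?_
    · intro s t h
      have h' : pi e s = pi e t := Subtype.mk.inj h
      exact Subtype.ext (S.inj_siegG hF H s.2 t.2 h')
    · rintro ⟨_, ⟨s, hs, rfl⟩⟩
      exact ⟨⟨s, hs⟩, rfl⟩
    · rw [Pi.one_apply, map_one, mul_one, Function.comp_apply]
      congr 1
      have h1 : (⟨pi e s, hUM ⟨s, s.2, rfl⟩⟩ : M) = e.symm (QuotientGroup.mk (s : SU 3 F q)) := Subtype.ext rfl
      change _ = e ⟨pi e s, _⟩
      rw [h1, MulEquiv.apply_symm_apply]
  · rw [Function.comp_apply, map_one, hζ1]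
  · have h1 : ((Sit.CC (pi e) ⊓ Sit.HH (pi e) hF H).subgroupOf (Sit.HH (pi e) hF H)) =
        (Sit.CC (pi e)).subgroupOf (Sit.HH (pi e) hF H) := by
      rw [Subgroup.inf_subgroupOf_right]
    rw [h1]
    exact (S.index_CC _).trans (card_aut_le hF)

end Cfsg.Agent.H145.FivePSU3
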