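import Cfsg.Agent.H145.SpTwoCount
import Cfsg.Agent.H167.HasStLie
import Cfsg.Agent.OddHalf.Table.OutSpSix
import Cfsg.Agent.S0245
import Cfsg.Agent.S0270
import Cfsg.Prelude.Def_DegreeGraph

/-!
# Five character degrees: almost simple groups with socle `Sp_{2m}(2)`, `m ≥ 3`

Task 550 (helper145, for S4898). `Aut(Sp_{2m}(2))` is inner; the degrees are `1`, the two nontrivial constituents of
the 2-transitive actions on quadratic forms, the Steinberg degree, and a constituent of the permutation character on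
the nondegenerate planes (rank 5).
-/

set_option autoImplicit false

namespace Cfsg.Agent.H145.FiveSp2

open Cfsg Cfsg.Agent.H79.MinIdxSp2 Cfsg.Agent.H145.SpTwo Matrix
open Cfsg.Agent.ClassicalGeometry.SympBasic

universe u

variable {F : Type} [Field F] {m : ℕ}

theorem zero_or_one [Fintype F] (hF : Fintype.card F = 2) (a : F) : a = 0 ∨ a = 1 := by
  classical
  by_cases h0 : a = 0
  · exact Or.inl h0
  · right
    exact Cfsg.Agent.OddHalf.Table.OutSpSix.eq_one_of_card (by rw [Nat.card_eq_fintype_card, hF]) a h0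

theorem full (h01 : ∀ a : F, a = 0 ∨ a = 1) : Full (spData (m := m) h01) := by
  intro g hg
  refine ⟨⟨LinearMap.toMatrix' g.toLinearMap, ?_⟩, fun v => ?_⟩
  · rw [mem_symplecticGroup_iff]
    intro u v
    rw [LinearMap.toMatrix'_mulVec, LinearMap.toMatrix'_mulVec]
    exact hg u v
  · rw [sp_smul_def]
    change LinearMap.toMatrix' g.toLinearMap *ᵥ v = g v
    rw [LinearMap.toMatrix'_mulVec]
    rfl

omit [Field F] in
theorem card_vec [Fintype F] (hF : Fintype.card F = 2) : Nat.card (Fin m ⊕ Fin m → F) = 2 ^ (2 * m) := by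
  rw [Nat.card_fun, Nat.card_eq_fintype_card (α := F), hF, Nat.card_eq_fintype_card, Fintype.card_sum, Fintype.card_fin, two_mul]

/-- `Sp_{2m}(2) ≅ PSp_{2m}(2)`. -/
theorem exists_equiv (h01 : ∀ a : F, a = 0 ∨ a = 1) : Nonempty (Matrix.symplecticGroup (Fin m) F ≃* PSp m F) := by
  refine ⟨MulEquiv.ofBijective (QuotientGroup.mk' _) ⟨?_, QuotientGroup.mk'_surjective _⟩⟩
  rw [← MonoidHom.ker_eq_bot_iff, QuotientGroup.ker_mk']
  exact center_eq_bot h01

theorem five_psp [Fintype F] (hF : Fintype.card F = 2) (hm : 3 ≤ m) : 5 ≤ (charDegrees (PSp m F)).ncard := by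
  classical
  have h01 := zero_or_one hF
  obtain ⟨e⟩ := exists_equiv (m := m) h01
  have : Fact (Nat.Prime 2) := ⟨Nat.prime_two⟩
  have hchar : CharP F 2 := by
    obtain ⟨p, hp⟩ := CharP.exists F
    obtain ⟨n, hp', hn⟩ := FiniteField.card F p
    rw [hF] at hn
    have h1 : p ∣ 2 := by rw [hn]; exact dvd_pow_self p n.2.ne'
    rw [(Nat.prime_dvd_prime_iff_eq hp' Nat.prime_two).1 h1] at hp
    exact hp
  have : Finite (PSp m F) := Quotient.finite _
  have hsimple : IsSimpleGroup (PSp m F) := S0270.result m (by omega) (by omega)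
  obtain ⟨χ, hχ, h1, -⟩ := Cfsg.Agent.H167.StChar.hasSt_of_lie Nat.prime_two (T := PSp m F)
    (Or.inr (Or.inl ⟨F, inferInstance, inferInstance, hchar, m, by omega, by omega, ⟨MulEquiv.refl _⟩⟩))
  have hcard : Nat.card (PSp m F) = 2 ^ (m ^ 2) * ∏ i ∈ Finset.range m, (2 ^ (2 * (i + 1)) - 1) := by
    rw [← Nat.card_congr e.toEquiv]
    exact S0245.result hF m
  have hne : Nat.card (PSp m F) ≠ 0 := Nat.card_pos.ne'
  have hle : 2 ^ (m ^ 2) ≤ 2 ^ (Nat.card (PSp m F)).factorization 2 := by
    refine Nat.pow_le_pow_right (by norm_num) ?_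
    refine (Nat.Prime.pow_dvd_iff_le_factorization Nat.prime_two hne).1 ?_
    rw [hcard]
    exact dvd_mul_right _ _
  have h2 := five (spData (m := m) h01) hm (card_vec hF) (full h01) (quadFormPlus_add h01)
    (Cfsg.Agent.Characters.Core.isIrr_comp e.toMonoidHom e.surjective hχ) (s := 2 ^ (Nat.card (PSp m F)).factorization 2)
    (by rw [Function.comp_apply, map_one, h1]) hle
  refine h2.trans (Set.ncard_le_ncard ?_ ?_)
  · rintro d ⟨χ, rfl⟩
    refine ⟨⟨(χ : _ → ℂ) ∘ e.symm, Cfsg.Agent.Characters.Core.isIrr_comp e.symm.toMonoidHom e.symm.surjective χ.2⟩, ?_⟩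
    show charDegree ((χ : _ → ℂ) ∘ e.symm) = _
    unfold charDegree
    rw [Function.comp_apply, map_one]
  · have := Cfsg.Agent.Characters.Core.finite_irr (G := PSp m F)
    have h : charDegrees (PSp m F) = Set.range (fun χ : IrrCharacter (PSp m F) => charDegree (χ : PSp m F → ℂ)) := by
      ext d
      simp [charDegrees]
    rw [h]
    exact Set.finite_range _

/-- The centralizer condition and inner automorphisms. -/
theorem eq_top {G : Type u} [Group G] (M : Subgroup G) (hM : M.Normal) (hc : Subgroup.centralizer (M : Set G) = ⊥)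
    (hin : ∀ α : MulAut M, ∃ x : M, α = MulAut.conj x) : M = ⊤ := by
  rw [eq_top_iff]
  intro g _
  obtain ⟨x, hx⟩ := hin (MulAut.conjNormal g)
  have h1 : (x : G)⁻¹ * g ∈ Subgroup.centralizer (M : Set G) := by
    rw [Subgroup.mem_centralizer_iff]
    intro y hy
    have h2 := congrArg (fun α : MulAut M => ((α ⟨y, hy⟩ : M) : G)) hx
    simp only [MulAut.conjNormal_apply, MulAut.conj_apply, Subgroup.coe_mul, Subgroup.coe_inv] at h2
    calc y * ((x : G)⁻¹ * g) = (x : G)⁻¹ * ((x : G) * y * (x : G)⁻¹) * g := by group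
      _ = (x : G)⁻¹ * (g * y * g⁻¹) * g := by rw [h2]
      _ = (x : G)⁻¹ * g * y := by group
  rw [hc, Subgroup.mem_bot, inv_mul_eq_one] at h1
  rw [← h1]
  exact x.2

/-- **Task 550.** -/
theorem five_sp2 {G : Type u} [Group G] [Finite G] (M : Subgroup G) (hM : M.Normal) (hc : Subgroup.centralizer (M : Set G) = ⊥)
    (F : Type) [Field F] [Fintype F] (hF : Fintype.card F = 2) (m : ℕ) (hm : 3 ≤ m) (e : Nonempty (M ≃* Cfsg.PSp m F)) :
    5 ≤ (Cfsg.charDegrees G).ncard := by
  classical
  obtain ⟨e⟩ := e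
  have htop : M = ⊤ := by
    refine eq_top M hM hc fun α => ?_
    obtain ⟨x, hx⟩ := Cfsg.Agent.OddHalf.Table.OutSpSix.inner hm (F := F) (by rw [Nat.card_eq_fintype_card, hF])
      ((e.symm.trans α).trans e)
    refine ⟨e.symm x, ?_⟩
    ext1 y
    have h1 := congrArg (fun β : MulAut (PSp m F) => e.symm (β (e y))) hx
    simpa using h1
  subst htop
  have e' : G ≃* PSp m F := Subgroup.topEquiv.symm.trans e
  refine (five_psp hF hm).trans (Set.ncard_le_ncard ?_ ?_)
  · rintro d ⟨χ, rfl⟩
    refine ⟨⟨(χ : _ → ℂ) ∘ e', Cfsg.Agent.Characters.Core.isIrr_comp e'.toMonoidHom e'.surjective χ.2⟩, ?_⟩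
    show charDegree ((χ : _ → ℂ) ∘ e') = _
    unfold charDegree
    rw [Function.comp_apply, map_one]
  · have := Cfsg.Agent.Characters.Core.finite_irr (G := G)
    have h : charDegrees G = Set.range (fun χ : IrrCharacter G => charDegree (χ : G → ℂ)) := by
      ext d
      simp [charDegrees]
    rw [h]
    exact Set.finite_range _

end Cfsg.Agent.H145.FiveSp2
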