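import Cfsg.Agent.Characters.Core
import Cfsg.Agent.PermutationGroups.PermChar
import Cfsg.Agent.H894.Derange
import Cfsg.Prelude.Def_DegreeGraph

/-!
# Large character degrees from transitive actions of small rank

`exists_deg`: a transitive action on `N` points of rank at most `R + 1` with `R * D + 1 < N` gives an irreducible
character of degree `d` with `D < d < N`.

(helper145, for S4898.)
-/

set_option autoImplicit false

namespace Cfsg.Agent.H145.PermDeg

open Cfsg MulAction Cfsg.Agent.Characters.Core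
open scoped ComplexConjugate

variable {G Ω : Type*} [Group G] [MulAction G Ω]

/-- A bound for the rank from a list of types. -/
theorem rank_le {T : Type*} [Finite T] (P : T → Ω × Ω → Prop) (h1 : ∀ p, ∃ t, P t p)
    (h2 : ∀ t p q, P t p → P t q → ∃ g : G, g • p = q) : H894.rank G Ω ≤ Nat.card T := by
  classical
  choose τ hτ using h1
  refine Nat.card_le_card_of_injective (fun x : Quotient (orbitRel G (Ω × Ω)) => τ x.out) ?_
  intro x y hxy
  obtain ⟨g, hg⟩ := h2 (τ x.out) x.out y.out (hτ _) (by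
    have h3 := hτ y.out
    have h4 : τ x.out = τ y.out := hxy
    rwa [← h4] at h3)
  rw [← x.out_eq, ← y.out_eq]
  refine (Quotient.sound ?_).symm
  exact ⟨g, hg⟩

/-- **A large character degree.** -/
theorem exists_deg [Finite G] [Finite Ω] [Nonempty Ω] (htr : IsPretransitive G Ω) {R D : ℕ}
    (hR : H894.rank G Ω ≤ R + 1) (hD : R * D + 1 < Nat.card Ω) :
    ∃ (χ : G → ℂ) (d : ℕ), IsIrrCharacter G χ ∧ χ 1 = d ∧ D < d ∧ d < Nat.card Ω := by
  classical
  have : Fintype G := Fintype.ofFinite G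
  have : Fintype Ω := Fintype.ofFinite Ω
  have : Fintype (IrrCharacter G) := by
    have := finite_irr (G := G)
    exact Fintype.ofFinite _
  have hG : (Nat.card G : ℂ) ≠ 0 := card_ne_zero_complex
  set π : G → ℂ := fun g => (Nat.card (fixedBy Ω g) : ℂ) with hπ
  have hchar : IsCharacter G π := by
    rw [hπ, Cfsg.Agent.PermutationGroups.PermChar.permChar_eq]
    exact isCharacter_of_rep _
  obtain ⟨m, hm⟩ := exists_nat_comb hchar
  have hsq : (∑ ψ : IrrCharacter G, (m ψ) ^ 2) = H894.rank G Ω := by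
    have h1 : classInner π π = ((∑ ψ : IrrCharacter G, (m ψ) ^ 2 : ℕ) : ℂ) := by
      have h2 : (∑ ψ : IrrCharacter G, m ψ • (ψ : G → ℂ)) = ∑ ψ : IrrCharacter G, (m ψ : ℂ) • (ψ : G → ℂ) := by
        simp only [Nat.cast_smul_eq_nsmul]
      rw [hm, h2, classInner_sum_smul_sum_smul]
      push_cast
      refine Finset.sum_congr rfl fun ψ _ => ?_
      rw [Complex.conj_natCast, sq]
    have h3 : classInner π π = (H894.rank G Ω : ℂ) := by
      rw [classInner_def]
      have h4 := H894.sum_fix_sq (G := G) (Ω := Ω)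
      have h5 : ∑ g : G, π g * conj (π g) = ((∑ g : G, Nat.card (fixedBy Ω g) ^ 2 : ℕ) : ℂ) := by
        push_cast
        refine Finset.sum_congr rfl fun g _ => ?_
        rw [hπ]
        simp only [Complex.conj_natCast]
        rw [sq]
      rw [h5, h4]
      push_cast
      field_simp
    rw [h1] at h3
    exact_mod_cast h3
  set ε : IrrCharacter G := ⟨1, isIrr_one⟩ with hε
  have hone : m ε = 1 := by
    have h1 := classInner_sum_nsmul_irr m ε
    rw [← hm] at h1
    have h2 : classInner π (1 : G → ℂ) = 1 := by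
      rw [classInner_def]
      have h4 := H894.sum_fix (G := G) (Ω := Ω) htr
      have h5 : ∑ g : G, π g * conj ((1 : G → ℂ) g) = ((∑ g : G, Nat.card (fixedBy Ω g) : ℕ) : ℂ) := by
        push_cast
        refine Finset.sum_congr rfl fun g _ => ?_
        rw [Pi.one_apply, map_one, mul_one]
      rw [h5, h4]
      field_simp
    have h3 : (m ε : ℂ) = 1 := by rw [← h1]; exact h2
    exact_mod_cast h3
  choose dg hdg0 hdg using fun ψ : IrrCharacter G => isIrr_apply_one ψ.2
  have hdeg : Nat.card Ω = ∑ ψ : IrrCharacter G, m ψ * dg ψ := by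
    have h1 := congrFun hm 1
    simp only [Finset.sum_apply, Pi.smul_apply] at h1
    have h2 : π 1 = Nat.card Ω := by
      rw [hπ]
      simp only [Nat.cast_inj]
      refine Nat.card_congr ⟨fun x => x.1, fun x => ⟨x, one_smul G x⟩, fun _ => rfl, fun _ => rfl⟩
    rw [h2] at h1
    have h3 : (Nat.card Ω : ℂ) = ((∑ ψ : IrrCharacter G, m ψ * dg ψ : ℕ) : ℂ) := by
      rw [h1]
      push_cast
      refine Finset.sum_congr rfl fun ψ _ => ?_
      rw [nsmul_eq_mul, ← hdg ψ]
    exact_mod_cast h3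
  have hdε : dg ε = 1 := by
    have h1 := hdg ε
    have h2 : (ε : G → ℂ) 1 = 1 := rfl
    rw [h2] at h1
    exact_mod_cast h1.symm
  by_contra hcon
  push Not at hcon
  have hsplit : Nat.card Ω = 1 + ∑ ψ ∈ Finset.univ.erase ε, m ψ * dg ψ := by
    rw [hdeg, ← Finset.add_sum_erase _ _ (Finset.mem_univ ε), hone, hdε]
  have hsplit2 : H894.rank G Ω = 1 + ∑ ψ ∈ Finset.univ.erase ε, (m ψ) ^ 2 := by
    rw [← hsq, ← Finset.add_sum_erase _ _ (Finset.mem_univ ε), hone, one_pow]
  have hterm : ∀ ψ ∈ Finset.univ.erase ε, m ψ * dg ψ ≤ (m ψ) ^ 2 * D := by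
    intro ψ hψ
    rcases Nat.eq_zero_or_pos (m ψ) with h0 | h0
    · rw [h0]; simp
    · have h1 : m ψ * dg ψ ≤ ∑ ψ ∈ Finset.univ.erase ε, m ψ * dg ψ :=
        Finset.single_le_sum (f := fun ψ => m ψ * dg ψ) (fun _ _ => Nat.zero_le _) hψ
      have h2 : dg ψ ≤ m ψ * dg ψ := Nat.le_mul_of_pos_left _ h0
      have h3 : dg ψ ≤ D := by
        by_contra h4
        push Not at h4
        have h5 := hcon ψ (dg ψ) ψ.2 (hdg ψ) h4
        omega
      calc m ψ * dg ψ ≤ m ψ * D := Nat.mul_le_mul_left _ h3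
        _ ≤ (m ψ) ^ 2 * D := Nat.mul_le_mul_right _ (by rw [sq]; exact Nat.le_mul_of_pos_left _ h0)
  have h1 := Finset.sum_le_sum hterm
  rw [← Finset.sum_mul] at h1
  have h2 : (∑ ψ ∈ Finset.univ.erase ε, (m ψ) ^ 2) ≤ R := by omega
  have h3 := Nat.mul_le_mul_right D h2
  omega

/-- **Two-transitive actions.** -/
theorem exists_deg_two [Finite G] [Finite Ω] (h2 : ∀ a b c d : Ω, a ≠ b → c ≠ d → ∃ g : G, g • a = c ∧ g • b = d)
    (h3 : 3 ≤ Nat.card Ω) : ∃ χ : G → ℂ, IsIrrCharacter G χ ∧ χ 1 = ((Nat.card Ω - 1 : ℕ) : ℂ) := by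
  classical
  have : Nontrivial Ω := Finite.one_lt_card_iff_nontrivial.1 (by omega)
  have htr : IsPretransitive G Ω := ⟨fun x y => by
    obtain ⟨x', hx'⟩ := exists_ne x
    obtain ⟨y', hy'⟩ := exists_ne y
    obtain ⟨g, hg, -⟩ := h2 x x' y y' hx'.symm hy'.symm
    exact ⟨g, hg⟩⟩
  have hR : H894.rank G Ω ≤ 1 + 1 := by
    have h := rank_le (G := G) (Ω := Ω) (T := Bool) (fun t p => (p.1 = p.2 ↔ t = true)) (fun p => by
      by_cases h : p.1 = p.2
      · exact ⟨true, by simp [h]⟩
      · exact ⟨false, by simp [h]⟩) (fun t p q hp hq => by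
        cases t
        · have h5 : p.1 ≠ p.2 := by simpa using hp
          have h6 : q.1 ≠ q.2 := by simpa using hq
          obtain ⟨g, hg1, hg2⟩ := h2 _ _ _ _ h5 h6
          exact ⟨g, Prod.ext hg1 hg2⟩
        · have h5 : p.1 = p.2 := by simpa using hp
          have h6 : q.1 = q.2 := by simpa using hq
          obtain ⟨g, hg⟩ := htr.exists_smul_eq p.1 q.1
          exact ⟨g, Prod.ext hg (by rw [Prod.smul_snd, ← h5, ← h6]; exact hg)⟩)
    simpa using h
  obtain ⟨χ, d, hχ, hd, h4, h5⟩ := exists_deg htr (R := 1) (D := Nat.card Ω - 2) hR (by omega)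
  refine ⟨χ, hχ, ?_⟩
  rw [hd]
  congr 1
  omega

end Cfsg.Agent.H145.PermDeg
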