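import Cfsg.Agent.Characters.Core
import Cfsg.Agent.OddOrderCharacters.Clifford
import Cfsg.Agent.CharactersDeep.IndFun
import Cfsg.Agent.H113.NormTwoChar
import Cfsg.Agent.OddOrderCharacters.InertiaAbelian

/-!
# Induced characters of a group `G = H ∪ U x H`, `U ≤ H` regular on the remaining points

(helper145, for S4898.) If `ψ` is an irreducible character of `H` with `U` in its kernel then `ψ^G` has at most two
irreducible constituents, and each of them has exactly `ψ(1)` times the principal character of `U` in its restriction if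
there are two.
-/

set_option autoImplicit false

namespace Cfsg.Agent.H145.RankOne

open Cfsg Cfsg.Agent.Characters.Core Cfsg.Agent.OddOrderCharacters.Clifford
open scoped ComplexConjugate

variable {G : Type*} [Group G]

/-- `G = H ∪ U x H`, `U ≤ H`, regular on the remaining points. -/
structure R1 (H U : Subgroup G) : Prop where
  le : U ≤ H
  ne_top : ∃ x, x ∉ H
  tr : ∀ x ∉ H, ∀ y ∉ H, ∃ u ∈ U, ∃ h ∈ H, y = u * x * h
  free : ∀ u ∈ U, u ≠ 1 → ∀ x ∉ H, x⁻¹ * u * x ∉ H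

namespace R1

variable {H U : Subgroup G}

theorem card_compl [Finite G] (D : R1 H U) : Nat.card {y : G // y ∉ H} = Nat.card U * Nat.card H := by
  obtain ⟨x, hx⟩ := D.ne_top
  rw [← Nat.card_prod]
  have hmem : ∀ p : U × H, (p.1 : G) * x * p.2 ∉ H := by
    intro p h
    apply hx
    have h1 : (p.1 : G)⁻¹ * (p.1 * x * p.2) * (p.2 : G)⁻¹ ∈ H :=
      H.mul_mem (H.mul_mem (H.inv_mem (D.le p.1.2)) h) (H.inv_mem p.2.2)
    have h2 : (p.1 : G)⁻¹ * (p.1 * x * p.2) * (p.2 : G)⁻¹ = x := by group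
    rwa [h2] at h1
  symm
  refine Nat.card_congr (Equiv.ofBijective (fun p : U × H => ⟨(p.1 : G) * x * p.2, hmem p⟩) ⟨?_, ?_⟩)
  · rintro ⟨u, h⟩ ⟨u', h'⟩ heq
    have heq' : (u : G) * x * h = u' * x * h' := congrArg Subtype.val heq
    have h1 : x⁻¹ * ((u' : G)⁻¹ * u) * x = h' * (h : G)⁻¹ := by
      have : (u' : G)⁻¹ * u * x = x * h' * (h : G)⁻¹ := by
        calc (u' : G)⁻¹ * u * x = (u' : G)⁻¹ * (u * x * h) * (h : G)⁻¹ := by group
          _ = (u' : G)⁻¹ * (u' * x * h') * (h : G)⁻¹ := by rw [heq']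
          _ = x * h' * (h : G)⁻¹ := by group
      calc x⁻¹ * ((u' : G)⁻¹ * u) * x = x⁻¹ * ((u' : G)⁻¹ * u * x) := by group
        _ = x⁻¹ * (x * h' * (h : G)⁻¹) := by rw [this]
        _ = h' * (h : G)⁻¹ := by group
    have h2 : (u' : G)⁻¹ * u = 1 := by
      by_contra hne
      apply D.free _ (U.mul_mem (U.inv_mem u'.2) u.2) hne x hx
      rw [h1]
      exact H.mul_mem h'.2 (H.inv_mem h.2)
    have h3 : u = u' := Subtype.ext (inv_mul_eq_one.1 h2).symm
    subst h3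
    have h4 : (h : G) = h' := mul_left_cancel heq'
    rw [Subtype.ext h4]
  · rintro ⟨y, hy⟩
    obtain ⟨u, hu, h, hh, rfl⟩ := D.tr x hx y hy
    exact ⟨(⟨u, hu⟩, ⟨h, hh⟩), rfl⟩

theorem card_eq [Finite G] (D : R1 H U) : Nat.card G = (Nat.card U + 1) * Nat.card H := by
  classical
  have h1 : Nat.card G = Nat.card {y : G // y ∈ H} + Nat.card {y : G // ¬ y ∈ H} := by
    rw [← Nat.card_sum]
    exact Nat.card_congr (Equiv.sumCompl (fun y : G => y ∈ H)).symm
  have h2 := D.card_compl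
  have h3 : Nat.card {y : G // y ∈ H} = Nat.card H := rfl
  rw [h1, h2, h3]
  ring

theorem index_eq [Finite G] (D : R1 H U) : H.index = Nat.card U + 1 := by
  have h1 := H.index_mul_card
  rw [D.card_eq] at h1
  exact Nat.eq_of_mul_eq_mul_right Nat.card_pos h1

variable [Fintype G]

theorem ind_one (D : R1 H U) (ψ : H → ℂ) : indFun H ψ 1 = ((Nat.card U : ℂ) + 1) * ψ 1 := by
  rw [Cfsg.Agent.OddOrderCharacters.InertiaAbelian.indFun_one, D.index_eq]
  push_cast
  ring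

theorem ind_U (D : R1 H U) {ψ : H → ℂ} (hψ : IsClassFunction H ψ) (hU : ∀ (u : G) (hu : u ∈ U), ψ ⟨u, D.le hu⟩ = ψ 1)
    {u : G} (hu : u ∈ U) (h1 : u ≠ 1) : indFun H ψ u = ψ 1 := by
  classical
  rw [Cfsg.Agent.Characters.Core.indFun_apply]
  have h2 : ∀ x : G, extendByZero H ψ (x⁻¹ * u * x) = if x ∈ H then ψ 1 else 0 := by
    intro x
    by_cases hx : x ∈ H
    · rw [if_pos hx]
      have hm : x⁻¹ * u * x ∈ H := H.mul_mem (H.mul_mem (H.inv_mem hx) (D.le hu)) hx
      rw [ext_apply_mem H _ _ hm, ← hU u hu]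
      have := isClassFunction_def.1 hψ ⟨u, D.le hu⟩ (⟨x, hx⟩⁻¹)
      rw [← this]
      congr 1
      apply Subtype.ext
      simp
    · rw [if_neg hx, ext_apply_not_mem H _ _ (D.free u hu h1 x hx)]
  simp only [h2]
  rw [← Finset.sum_filter, Finset.sum_const]
  have h3 : (Finset.univ.filter (fun x : G => x ∈ H)).card = Nat.card H := by
    rw [← Fintype.card_subtype, ← Nat.card_eq_fintype_card]
  rw [h3, nsmul_eq_mul]
  have : (Nat.card H : ℂ) ≠ 0 := by exact_mod_cast Nat.card_pos.ne'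
  field_simp

theorem inner_U (D : R1 H U) [Fintype U] {ψ : H → ℂ} (hψ : IsClassFunction H ψ)
    (hU : ∀ (u : G) (hu : u ∈ U), ψ ⟨u, D.le hu⟩ = ψ 1) :
    classInner (indFun H ψ ∘ U.subtype) 1 = 2 * ψ 1 := by
  classical
  rw [classInner_def]
  have hU0 : (Nat.card U : ℂ) ≠ 0 := by exact_mod_cast Nat.card_pos.ne'
  have h1 : ∀ u : U, (indFun H ψ ∘ U.subtype) u * conj ((1 : U → ℂ) u) =
      ψ 1 + if u = 1 then (Nat.card U : ℂ) * ψ 1 else 0 := by
    intro u
    rw [Pi.one_apply, map_one, mul_one]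
    by_cases hu : u = 1
    · subst hu
      rw [if_pos rfl]
      show indFun H ψ ((1 : U) : G) = _
      rw [Subgroup.coe_one, D.ind_one]
      ring
    · rw [if_neg hu, add_zero]
      exact D.ind_U hψ hU u.2 (fun h => hu (Subtype.ext h))
  simp only [h1]
  rw [Finset.sum_add_distrib, Finset.sum_const, Finset.sum_ite_eq' , if_pos (Finset.mem_univ _), Finset.card_univ,
    ← Nat.card_eq_fintype_card, nsmul_eq_mul]
  field_simp
  norm_num

/-- A constituent of the induced character contains the principal character of `U` at least `ψ(1)` times. -/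
theorem constituent (D : R1 H U) [Fintype U] {ψ : H → ℂ} (hψ : IsIrrCharacter H ψ)
    (hU : ∀ (u : G) (hu : u ∈ U), ψ ⟨u, D.le hu⟩ = ψ 1) {ζ : G → ℂ} (hζ : IsIrrCharacter G ζ)
    (h0 : classInner (indFun H ψ) ζ ≠ 0) :
    ∃ n : ℕ, classInner (ζ ∘ U.subtype) 1 = (n : ℂ) + ψ 1 := by
  classical
  have : Fintype H := Fintype.ofFinite H
  rw [Cfsg.Agent.OddOrderCharacters.Clifford.classInner_indFun H _ _ (isIrr_isClassFunction hζ)] at h0
  have h4 : classInner (ζ ∘ H.subtype) ψ ≠ 0 := by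
    intro h5
    apply h0
    rw [← classInner_conj_symm]
    change conj (classInner (ζ ∘ H.subtype) _) = 0
    rw [h5, map_zero]
  have h5 := isCharacter_sub_irr (isCharacter_comp H.subtype (isIrr_isCharacter hζ)) hψ h4
  have h6 := isCharacter_comp (Subgroup.inclusion D.le) h5
  obtain ⟨n, hn⟩ := classInner_isNat h6 isCharacter_one
  refine ⟨n, ?_⟩
  rw [← hn]
  have h7 : (ζ ∘ U.subtype) = ((ζ ∘ H.subtype - ψ) ∘ (Subgroup.inclusion D.le)) + (ψ 1) • (1 : U → ℂ) := by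
    funext u
    have h8 := hU u.1 u.2
    simp only [Function.comp_apply, Pi.add_apply, Pi.sub_apply, Pi.smul_apply, Pi.one_apply, smul_eq_mul, mul_one]
    have h9 : (Subgroup.inclusion D.le) u = ⟨u, D.le u.2⟩ := rfl
    rw [h9, h8]
    simp
  rw [h7, classInner_add_left, classInner_smul_left, classInner_irr_self isIrr_one, mul_one]

/-- At most two constituents. -/
theorem eq_zero_of_three (D : R1 H U) [Fintype U] {ψ : H → ℂ} (hψ : IsIrrCharacter H ψ)
    (hU : ∀ (u : G) (hu : u ∈ U), ψ ⟨u, D.le hu⟩ = ψ 1) {ζ₁ ζ₂ r : G → ℂ} (h₁ : IsIrrCharacter G ζ₁)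
    (h₂ : IsIrrCharacter G ζ₂) (hr : IsCharacter G r) (h : indFun H ψ = ζ₁ + ζ₂ + r) :
    r = 0 ∧ classInner (ζ₁ ∘ U.subtype) 1 = ψ 1 ∧ classInner (ζ₂ ∘ U.subtype) 1 = ψ 1 := by
  classical
  obtain ⟨d, hd, hψ1⟩ := isIrr_apply_one hψ
  have hind := Cfsg.Agent.CharactersDeep.IndFun.isCharacter_indFun H (isIrr_isCharacter hψ)
  have hpos : ∀ {ζ s : G → ℂ}, IsIrrCharacter G ζ → IsCharacter G s → indFun H ψ = ζ + s →
      classInner (indFun H ψ) ζ ≠ 0 := by
    intro ζ s hζ hs he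
    obtain ⟨n, hn⟩ := classInner_isNat hs (isIrr_isCharacter hζ)
    rw [he, classInner_add_left, classInner_irr_self hζ, hn]
    have : ((1 + n : ℕ) : ℂ) ≠ 0 := by exact_mod_cast (by omega)
    push_cast at this
    exact this
  obtain ⟨n₁, hn₁⟩ := D.constituent hψ hU h₁ (hpos h₁ (isCharacter_add (isIrr_isCharacter h₂) hr)
    (by rw [h]; ring))
  obtain ⟨n₂, hn₂⟩ := D.constituent hψ hU h₂ (hpos h₂ (isCharacter_add (isIrr_isCharacter h₁) hr)
    (by rw [h]; ring))
  have h3 := D.inner_U (isIrr_isClassFunction hψ) hU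
  have hcomp : indFun H ψ ∘ U.subtype = ζ₁ ∘ U.subtype + ζ₂ ∘ U.subtype + r ∘ U.subtype := by
    rw [h]; rfl
  rw [hcomp, classInner_add_left, classInner_add_left, hn₁, hn₂] at h3
  by_cases hr0 : r = 0
  · refine ⟨hr0, ?_⟩
    subst hr0
    have h4 : classInner ((0 : G → ℂ) ∘ U.subtype) 1 = 0 := by
      have : (0 : G → ℂ) ∘ U.subtype = 0 := rfl
      rw [this, classInner_zero_left]
    rw [h4] at h3
    have h5 : ((n₁ + n₂ : ℕ) : ℂ) = 0 := by
      push_cast
      linear_combination h3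
    have h6 : n₁ + n₂ = 0 := by exact_mod_cast h5
    have h7 : n₁ = 0 := by omega
    have h8 : n₂ = 0 := by omega
    rw [hn₁, hn₂, h7, h8]
    simp
  · exfalso
    obtain ⟨ζ₃, h₃, hc⟩ := Cfsg.Agent.H113.NormTwoChar.exists_constituent hr hr0
    have hs := isCharacter_sub_irr hr h₃ hc
    obtain ⟨n₃, hn₃⟩ := D.constituent hψ hU h₃ (hpos h₃
      (isCharacter_add (isCharacter_add (isIrr_isCharacter h₁) (isIrr_isCharacter h₂)) hs)
      (by rw [h]; ring))
    obtain ⟨m, hm⟩ := classInner_isNat (isCharacter_comp U.subtype hs) isCharacter_one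
    have h4 : classInner (r ∘ U.subtype) 1 = (n₃ : ℂ) + ψ 1 + m := by
      have : r ∘ U.subtype = ζ₃ ∘ U.subtype + (r - ζ₃) ∘ U.subtype := by
        funext u
        simp
      rw [this, classInner_add_left, hn₃, hm]
    rw [h4, hψ1] at h3
    have h5 : ((n₁ + n₂ + n₃ + m + d : ℕ) : ℂ) = 0 := by
      push_cast
      linear_combination h3
    have h6 : n₁ + n₂ + n₃ + m + d = 0 := by exact_mod_cast h5
    omega

/-- If the induced character is a sum of two nonzero characters then both are irreducible. -/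
theorem irr_of_add (D : R1 H U) [Fintype U] {ψ : H → ℂ} (hψ : IsIrrCharacter H ψ)
    (hU : ∀ (u : G) (hu : u ∈ U), ψ ⟨u, D.le hu⟩ = ψ 1) {f₁ f₂ : G → ℂ} (h₁ : IsCharacter G f₁)
    (h₂ : IsCharacter G f₂) (h₁0 : f₁ ≠ 0) (h₂0 : f₂ ≠ 0) (h : indFun H ψ = f₁ + f₂) :
    IsIrrCharacter G f₁ ∧ IsIrrCharacter G f₂ ∧ classInner (f₁ ∘ U.subtype) 1 = ψ 1 := by
  classical
  obtain ⟨ζ₁, hζ₁, hc₁⟩ := Cfsg.Agent.H113.NormTwoChar.exists_constituent h₁ h₁0
  obtain ⟨ζ₂, hζ₂, hc₂⟩ := Cfsg.Agent.H113.NormTwoChar.exists_constituent h₂ h₂0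
  have hs₁ := isCharacter_sub_irr h₁ hζ₁ hc₁
  have hs₂ := isCharacter_sub_irr h₂ hζ₂ hc₂
  have h3 := D.eq_zero_of_three hψ hU hζ₁ hζ₂ (isCharacter_add hs₁ hs₂) (by rw [h]; ring)
  have h4 : ∀ {a b : G → ℂ}, IsCharacter G a → IsCharacter G b → a + b = 0 → a = 0 := by
    intro a b ha hb hab
    obtain ⟨n, hn⟩ := isCharacter_apply_one ha
    obtain ⟨m, hm⟩ := isCharacter_apply_one hb
    by_contra ha0
    obtain ⟨ζ, hζ, hc⟩ := Cfsg.Agent.H113.NormTwoChar.exists_constituent ha ha0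
    obtain ⟨k, hk⟩ := classInner_isNat ha (isIrr_isCharacter hζ)
    obtain ⟨l, hl⟩ := classInner_isNat hb (isIrr_isCharacter hζ)
    have h5 : classInner (a + b) ζ = 0 := by rw [hab, classInner_zero_left]
    rw [classInner_add_left, hk, hl] at h5
    have h6 : k + l = 0 := by exact_mod_cast h5
    apply hc
    rw [hk]
    have : k = 0 := by omega
    rw [this]; simp
  have h5 := h4 hs₁ hs₂ h3.1
  have h6 := h4 hs₂ hs₁ (by rw [add_comm]; exact h3.1)
  rw [sub_eq_zero] at h5 h6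
  rw [h5, h6]
  exact ⟨hζ₁, hζ₂, h3.2.1⟩

/-- The degree `|U|` of the doubly transitive action. -/
theorem exists_stein (D : R1 H U) : ∃ Y : G → ℂ, IsIrrCharacter G Y ∧ Y 1 = Nat.card U := by
  classical
  have : Fintype U := Fintype.ofFinite U
  have : Fintype H := Fintype.ofFinite H
  have h1 : classInner (indFun H (1 : H → ℂ)) 1 ≠ 0 := by
    rw [Cfsg.Agent.OddOrderCharacters.Clifford.classInner_indFun H _ _ (isIrr_isClassFunction isIrr_one)]
    change classInner (1 : H → ℂ) 1 ≠ 0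
    rw [classInner_irr_self isIrr_one]
    exact one_ne_zero
  have h2 := isCharacter_sub_irr (Cfsg.Agent.CharactersDeep.IndFun.isCharacter_indFun H isCharacter_one)
    (isIrr_one (G := G)) h1
  have h3 := D.ind_one (1 : H → ℂ)
  have hU : (Nat.card U : ℂ) ≠ 0 := by exact_mod_cast Nat.card_pos.ne'
  have h5 : (indFun H (1 : H → ℂ) - 1) 1 = Nat.card U := by
    rw [Pi.sub_apply, h3, Pi.one_apply, Pi.one_apply]
    ring
  have h4 : indFun H (1 : H → ℂ) - 1 ≠ 0 := by
    intro h4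
    rw [h4] at h5
    exact hU h5.symm
  have h6 := D.irr_of_add (isIrr_one (G := H)) (fun _ _ => rfl) isCharacter_one h2
    (isIrr_ne_zero (isIrr_one (G := G))) h4 (by ring)
  exact ⟨_, h6.2.1, h5⟩

/-- **The dichotomy.** -/
theorem dichotomy (D : R1 H U) [Fintype U] {ψ : H → ℂ} (hψ : IsIrrCharacter H ψ)
    (hU : ∀ (u : G) (hu : u ∈ U), ψ ⟨u, D.le hu⟩ = ψ 1) {X : G → ℂ} (hX : IsIrrCharacter G X)
    (h0 : classInner (indFun H ψ) X ≠ 0) :
    X = indFun H ψ ∨ (∃ Y : G → ℂ, IsIrrCharacter G Y ∧ indFun H ψ = X + Y ∧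
      classInner (X ∘ U.subtype) 1 = ψ 1) := by
  classical
  have h1 := isCharacter_sub_irr (Cfsg.Agent.CharactersDeep.IndFun.isCharacter_indFun H (isIrr_isCharacter hψ)) hX h0
  by_cases h2 : indFun H ψ - X = 0
  · left
    exact (sub_eq_zero.1 h2).symm
  · right
    have h3 := D.irr_of_add hψ hU (isIrr_isCharacter hX) h1 (isIrr_ne_zero hX) h2 (by ring)
    exact ⟨_, h3.2.1, by ring, h3.2.2⟩

end R1

end Cfsg.Agent.H145.RankOne
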