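import Cfsg.Agent.H79.MinIdxSp2.Concrete
import Cfsg.Agent.H957.NoFixSymp
import Cfsg.Agent.H145.PermDeg

/-!
# Actions of `Sp_{2m}(2)`: quadratic forms and nondegenerate planes

(helper145, for S4898.)
-/

set_option autoImplicit false
set_option linter.unusedSectionVars false

namespace Cfsg.Agent.H145.SpTwo

open Cfsg.Agent.H79.MinIdxSp2 MulAction

variable {F V G : Type*} [Field F] [AddCommGroup V] [Module F V] [Group G] [DistribMulAction G V] (S : Sp2 F V G)

/-! ### Quadratic forms -/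

section Forms

variable {Q : V → F} (hQ : ∀ u v, Q (u + v) = Q u + Q v + S.B u v)

include hQ

theorem stab_one {v w : V} (hv : Q v = 0) (hw : Q w = 0) (h : S.B v w = 1) :
    (∀ u, Q (S.t (v + w) • u) = Q u) ∧ S.t (v + w) • v = w := by
  constructor
  · intro u
    exact S.form_t' hQ (by rw [hQ, hv, hw, h, zero_add, zero_add]) u
  · rw [S.t_smul, S.add_left, S.self, zero_add, S.symm, h, one_smul, S.add_add_self]

theorem stab_trans {v w : V} (hv0 : v ≠ 0) (hw0 : w ≠ 0) (hv : Q v = 0) (hw : Q w = 0) :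
    ∃ g : G, (∀ u, Q (g • u) = Q u) ∧ g • v = w := by
  by_cases hvw : v = w
  · exact ⟨1, fun u => by rw [one_smul], by rw [one_smul, hvw]⟩
  rcases S.two (S.B v w) with h | h
  · obtain ⟨z, hz1, hz2⟩ := S.exists_both hv0 hw0
    obtain ⟨y, hy, hy1, hy2⟩ : ∃ y, Q y = 0 ∧ S.B v y = 1 ∧ S.B w y = 1 := by
      rcases S.two (Q z) with h0 | h0
      · exact ⟨z, h0, hz1, hz2⟩
      · refine ⟨z + v, ?_, ?_, ?_⟩
        · rw [hQ, h0, hv, add_zero, S.symm, hz1, S.one_add_one]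
        · rw [S.add_right, hz1, S.self, add_zero]
        · rw [S.add_right, hz2, S.symm w v, h, add_zero]
    obtain ⟨a1, a2⟩ := stab_one S hQ hv hy hy1
    obtain ⟨b1, b2⟩ := stab_one S hQ hy hw (by rw [S.symm]; exact hy2)
    refine ⟨S.t (y + w) * S.t (v + y), fun u => ?_, ?_⟩
    · rw [mul_smul, b1, a1]
    · rw [mul_smul, a2, b2]
  · obtain ⟨a1, a2⟩ := stab_one S hQ hv hw h
    exact ⟨_, a1, a2⟩

omit hQ in
theorem smul_shift {g : G} (hg : ∀ u, Q (g • u) = Q u) (v : V) : g • S.shift Q v = S.shift Q (g • v) := by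
  rw [Sp2.Fn.smul_def']
  congr 1
  funext u
  change Q (g⁻¹ • u) + S.B v (g⁻¹ • u) = Q u + S.B (g • v) u
  rw [S.inv_left, ← hg (g⁻¹ • u), smul_inv_smul]

omit hQ in
theorem shift_zero : S.shift Q 0 = Sp2.Fn.mk Q := by
  rw [Sp2.shift]
  congr 1
  funext u
  rw [S.zero_left, add_zero]

omit hQ in
theorem shift_inj {v w : V} (h : S.shift Q v = S.shift Q w) : v = w := by
  rw [← S.add_eq_zero]
  apply S.nd
  intro u
  have h1 : Q u + S.B v u = Q u + S.B w u := congrFun (congrArg Sp2.Fn.toFun h) u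
  rw [S.add_left, add_left_cancel h1, S.add_selfF]

/-- **The orbit of a form is 2-transitive.** -/
theorem two_trans (a b c d : orbit G (Sp2.Fn.mk Q)) (hab : a ≠ b) (hcd : c ≠ d) :
    ∃ g : G, g • a = c ∧ g • b = d := by
  have key : ∀ a b : orbit G (Sp2.Fn.mk Q), a ≠ b → ∃ (h : G) (v : V), v ≠ 0 ∧ Q v = 0 ∧ (a : Sp2.Fn F V) = h • Sp2.Fn.mk Q ∧
      (b : Sp2.Fn F V) = h • S.shift Q v := by
    rintro ⟨_, ⟨h, rfl⟩⟩ ⟨b, hb⟩ hne
    have h1 : h⁻¹ • b ∈ orbit G (Sp2.Fn.mk Q) := by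
      obtain ⟨k, rfl⟩ := hb
      exact ⟨h⁻¹ * k, mul_smul _ _ _⟩
    rw [S.orbit_eq hQ] at h1
    obtain ⟨⟨v, hv⟩, h2⟩ := h1
    have h3 : S.shift Q v = h⁻¹ • b := h2
    refine ⟨h, v, ?_, hv, rfl, ?_⟩
    · rintro rfl
      apply hne
      apply Subtype.ext
      change h • Sp2.Fn.mk Q = b
      rw [← shift_zero S, h3, smul_inv_smul]
    · rw [h3, smul_inv_smul]
  obtain ⟨h, v, hv0, hv, ha, hb⟩ := key a b hab
  obtain ⟨k, w, hw0, hw, hc, hd⟩ := key c d hcd
  obtain ⟨g, hg, hgv⟩ := stab_trans S hQ hv0 hw0 hv hw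
  refine ⟨k * g * h⁻¹, Subtype.ext ?_, Subtype.ext ?_⟩
  · change (k * g * h⁻¹) • (a : Sp2.Fn F V) = c
    rw [ha, hc, mul_smul, inv_smul_smul, mul_smul, ← shift_zero S, smul_shift S hg, smul_zero]
  · change (k * g * h⁻¹) • (b : Sp2.Fn F V) = d
    rw [hb, hd, mul_smul, inv_smul_smul, mul_smul, smul_shift S hg, hgv]

theorem card_orbit [Finite V] : Nat.card (orbit G (Sp2.Fn.mk Q)) = Nat.card {v // Q v = 0} := by
  rw [← S.index_form hQ, index_stabilizer, Nat.card_coe_set_eq]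

/-- The number of zeros of the form. -/
theorem zeros [Finite V] {m : ℕ} (hm : 1 ≤ m) (hV : Nat.card V = 2 ^ (2 * m)) :
    Nat.card {v // Q v = 0} = 2 ^ (m - 1) * (2 ^ m + 1) ∨ Nat.card {v // Q v = 0} = 2 ^ (m - 1) * (2 ^ m - 1) := by
  have := Fintype.ofFinite V
  have h2 := S.gauss hQ
  have h3 := Sp2.sum_sg Q
  have hVZ : (Fintype.card V : ℤ) = 2 ^ m * 2 ^ m := by
    rw [← Nat.card_eq_fintype_card, hV, two_mul, pow_add]
    push_cast
    ring
  rw [hVZ] at h2 h3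
  have h5 : (∑ v, Sp2.sg (Q v) - 2 ^ m) * (∑ v, Sp2.sg (Q v) + 2 ^ m) = 0 := by linear_combination h2
  have h2m : (2 : ℤ) ^ m = 2 * 2 ^ (m - 1) := by
    rw [← pow_succ', Nat.sub_add_cancel hm]
  have h1m : 1 ≤ 2 ^ m := Nat.one_le_two_pow
  rcases mul_eq_zero.1 h5 with h6 | h6
  · left
    have h7 : (∑ v, Sp2.sg (Q v)) = 2 ^ m := by omega
    rw [h7] at h3
    zify
    nlinarith
  · right
    have h7 : (∑ v, Sp2.sg (Q v)) = - 2 ^ m := by omega
    rw [h7] at h3
    zify [h1m]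
    nlinarith

/-- Both types of forms. -/
theorem exists_forms [Finite V] {m : ℕ} (hm : 1 ≤ m) (hV : Nat.card V = 2 ^ (2 * m)) :
    (∃ Q' : V → F, (∀ u v, Q' (u + v) = Q' u + Q' v + S.B u v) ∧
      Nat.card {v // Q' v = 0} = 2 ^ (m - 1) * (2 ^ m + 1)) ∧
    ∃ Q' : V → F, (∀ u v, Q' (u + v) = Q' u + Q' v + S.B u v) ∧
      Nat.card {v // Q' v = 0} = 2 ^ (m - 1) * (2 ^ m - 1) := by
  have := Fintype.ofFinite V
  obtain ⟨v, hv⟩ : ∃ v, Q v = 1 := by
    by_contra hcon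
    push Not at hcon
    have h0 : ∀ v, Q v = 0 := fun v => S.ne_one.1 (hcon v)
    have h2 : ∀ v : V, v = 0 := by
      intro v
      apply S.nd
      intro w
      have := hQ v w
      rw [h0, h0, h0, zero_add, zero_add] at this
      exact this.symm
    have h3 : Nat.card V = 1 := by
      rw [Nat.card_eq_one_iff_unique]
      exact ⟨⟨fun a b => (h2 a).trans (h2 b).symm⟩, ⟨0⟩⟩
    rw [hV] at h3
    have h4 : 1 < 2 ^ (2 * m) := Nat.one_lt_pow (by omega) (by norm_num)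
    omega
  have hQ' : ∀ u u', (fun u => Q u + S.B v u) (u + u') = (fun u => Q u + S.B v u) u + (fun u => Q u + S.B v u) u' + S.B u u' :=
    S.shift_add hQ v
  have h2 : ∑ u, Sp2.sg (Q u + S.B v u) = - ∑ u, Sp2.sg (Q u) := by
    have h2 : ∑ u, Sp2.sg (Q u + S.B v u) = ∑ u, Sp2.sg (Q (u + v) + 1) := by
      refine Finset.sum_congr rfl fun u _ => ?_
      rw [hQ, hv, S.symm u v, add_assoc (Q u), add_comm (1 : F), add_assoc, add_assoc,
        S.one_add_one, add_zero]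
    have h3 : ∑ u, Sp2.sg (Q (u + v) + 1) = ∑ u, Sp2.sg (Q u + 1) :=
      Equiv.sum_comp (Equiv.addRight v) fun u => Sp2.sg (Q u + 1)
    rw [h2, h3, ← Finset.sum_neg_distrib]
    refine Finset.sum_congr rfl fun u _ => ?_
    rw [S.sg_add, Sp2.sg_one, mul_neg_one]
  have e1 := Sp2.sum_sg Q
  have e2 := Sp2.sum_sg (fun u => Q u + S.B v u)
  have hVc : (Fintype.card V : ℤ) = 2 ^ m * 2 ^ m := by
    rw [← Nat.card_eq_fintype_card, hV, two_mul, pow_add]
    push_cast
    ring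
  have h2m : (2 : ℤ) ^ m = 2 * 2 ^ (m - 1) := by
    rw [← pow_succ', Nat.sub_add_cancel hm]
  have h1m : 1 ≤ 2 ^ m := Nat.one_le_two_pow
  have hsum : (Nat.card {v // Q v = 0} : ℤ) + Nat.card {u // Q u + S.B v u = 0} = 2 ^ m * 2 ^ m := by
    have e3 : (∑ u, Sp2.sg (Q u + S.B v u)) = 2 * (Nat.card {u // Q u + S.B v u = 0} : ℤ) - Fintype.card V := e2
    rw [h2, e1, hVc] at e3
    linarith
  rcases zeros S hQ hm hV with h | h
  · refine ⟨⟨Q, hQ, h⟩, ⟨fun u => Q u + S.B v u, hQ', ?_⟩⟩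
    change Nat.card {u // Q u + S.B v u = 0} = _
    rw [h] at hsum
    zify [h1m]
    push_cast at hsum
    nlinarith
  · refine ⟨⟨fun u => Q u + S.B v u, hQ', ?_⟩, ⟨Q, hQ, h⟩⟩
    change Nat.card {u // Q u + S.B v u = 0} = _
    rw [h] at hsum
    zify [h1m] at hsum ⊢
    nlinarith

end Forms

/-! ### Nondegenerate planes -/

section Planes

open scoped Pointwise

/-- The nonzero vectors of the span of `u`, `v`. -/
def T (u v : V) : Set V := {u, v, u + v}

theorem smul_T (g : G) (u v : V) : g • T u v = T (g • u) (g • v) := by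
  rw [T, T, Set.smul_set_insert, Set.smul_set_insert, Set.smul_set_singleton, smul_add]

theorem mem_T {u v w : V} : w ∈ T u v ↔ w = u ∨ w = v ∨ w = u + v := Iff.rfl

/-- `u`, `v` is a hyperbolic basis of the plane `s`. -/
def Hy (s : Set V) (u v : V) : Prop := S.B u v = 1 ∧ s = T u v

theorem Hy.swap {s : Set V} {u v : V} (h : Hy S s u v) : Hy S s v u := by
  refine ⟨by rw [S.symm]; exact h.1, ?_⟩
  rw [h.2]
  ext w
  rw [mem_T, mem_T, add_comm v u]
  tauto

theorem Hy.add {s : Set V} {u v : V} (h : Hy S s u v) : Hy S s u (u + v) := by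
  refine ⟨by rw [S.add_right, S.self, zero_add]; exact h.1, ?_⟩
  rw [h.2]
  ext w
  rw [mem_T, mem_T, S.add_add_self]
  tauto

theorem Hy.add' {s : Set V} {u v : V} (h : Hy S s u v) : Hy S s (u + v) v := by
  rw [add_comm]
  exact (Hy.add S (Hy.swap S h)).swap

theorem Hy.of_mem {s : Set V} {u v : V} (h : Hy S s u v) {w : V} (hw : w ∈ s) : ∃ x, Hy S s w x := by
  rw [h.2, mem_T] at hw
  rcases hw with rfl | rfl | rfl
  · exact ⟨v, h⟩
  · exact ⟨u, Hy.swap S h⟩
  · exact ⟨v, Hy.add' S h⟩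

theorem Hy.ne_zero {s : Set V} {u v : V} (h : Hy S s u v) : u ≠ 0 := by
  rintro rfl
  have h1 := h.1
  rw [S.zero_left] at h1
  exact zero_ne_one h1

theorem Hy.ne {s : Set V} {u v : V} (h : Hy S s u v) : u ≠ v := by
  rintro rfl
  have h1 := h.1
  rw [S.self] at h1
  exact zero_ne_one h1

theorem Hy.mem_left {s : Set V} {u v : V} (h : Hy S s u v) : u ∈ s := by
  rw [h.2]; exact Or.inl rfl

theorem Hy.mem_right {s : Set V} {u v : V} (h : Hy S s u v) : v ∈ s := by
  rw [h.2]; exact Or.inr (Or.inl rfl)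

theorem Hy.of_ne {s : Set V} {u v : V} (h : Hy S s u v) {a b : V} (ha : a ∈ s) (hb : b ∈ s) (hab : a ≠ b) :
    Hy S s a b := by
  obtain ⟨x, hx⟩ := Hy.of_mem S h ha
  have hb' := hb
  rw [hx.2, mem_T] at hb'
  rcases hb' with rfl | rfl | rfl
  · exact absurd rfl hab
  · exact hx
  · exact Hy.add S hx

theorem Hy.smul {s : Set V} {u v : V} (h : Hy S s u v) (g : G) : Hy S (g • s) (g • u) (g • v) :=
  ⟨by rw [S.inv]; exact h.1, by rw [h.2, smul_T]⟩

/-- The nondegenerate planes. -/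
def Pl : SubMulAction G (Set V) where
  carrier := {s | ∃ u v, Hy S s u v}
  smul_mem' g s hs := by
    obtain ⟨u, v, h⟩ := hs
    exact ⟨g • u, g • v, Hy.smul S h g⟩

theorem mem_Pl {s : Set V} : s ∈ Pl S ↔ ∃ u v, Hy S s u v := Iff.rfl

/-! #### Independence -/

theorem indep2 {u v : V} (h : S.B u v = 1) : LinearIndependent F ![u, v] := by
  rw [Fintype.linearIndependent_iff]
  intro g hg
  rw [Fin.sum_univ_two] at hg
  simp only [Matrix.cons_val_zero, Matrix.cons_val_one] at hg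
  have h1 := congrArg (S.B u) hg
  have h2 := congrArg (S.B v) hg
  rw [S.zero_right, S.add_right, S.smul_right, S.smul_right, S.self, h, mul_zero, zero_add, mul_one] at h1
  rw [S.zero_right, S.add_right, S.smul_right, S.smul_right, S.self, S.symm v u, h, mul_zero, add_zero, mul_one] at h2
  intro i
  fin_cases i
  · exact h2
  · exact h1

theorem indep3 {u v w : V} (h : S.B u v = 1) (h' : S.B u w = 1) (h0 : S.B v w = 0) (hne : v ≠ w) :
    LinearIndependent F ![u, v, w] := by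
  rw [Fintype.linearIndependent_iff]
  intro g hg
  rw [Fin.sum_univ_three] at hg
  simp only [Matrix.cons_val_zero, Matrix.cons_val_one, Matrix.cons_val] at hg
  have h1 := congrArg (S.B u) hg
  have h2 := congrArg (S.B v) hg
  rw [S.zero_right, S.add_right, S.add_right, S.smul_right, S.smul_right, S.smul_right, S.self, h, h', mul_zero, zero_add, mul_one,
    mul_one] at h1
  rw [S.zero_right, S.add_right, S.add_right, S.smul_right, S.smul_right, S.smul_right, S.self, S.symm v u, h, h0, mul_zero, mul_zero,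
    add_zero, add_zero, mul_one] at h2
  rw [h2, zero_smul, zero_add] at hg
  rcases S.two (g 2) with h3 | h3
  · rw [h3, add_zero] at h1
    intro i
    fin_cases i
    · exact h2
    · exact h1
    · exact h3
  · exfalso
    rw [h3] at h1
    have h4 : g 1 = 1 := by
      rcases S.two (g 1) with h4 | h4
      · rw [h4, zero_add] at h1
        exact absurd h1 one_ne_zero
      · exact h4
    rw [h3, h4, one_smul, one_smul, S.add_eq_zero] at hg
    exact hne hg

theorem comb_mem {s : Set V} {u v : V} (h : Hy S s u v) (a b : F) : a • u + b • v ∈ s ∨ (a = 0 ∧ b = 0) := by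
  rw [h.2, mem_T]
  rcases S.two a with rfl | rfl <;> rcases S.two b with rfl | rfl <;> simp

theorem indep4 {s s' : Set V} {u v u' v' : V} (h : Hy S s u v) (h' : Hy S s' u' v') (hd : ∀ w ∈ s, w ∉ s') :
    LinearIndependent F ![u, v, u', v'] := by
  rw [Fintype.linearIndependent_iff]
  intro g hg
  rw [Fin.sum_univ_four] at hg
  simp only [Matrix.cons_val_zero, Matrix.cons_val_one, Matrix.cons_val] at hg
  rw [add_assoc, S.add_eq_zero] at hg
  have key : (g 0 = 0 ∧ g 1 = 0) ∧ (g 2 = 0 ∧ g 3 = 0) := by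
    rcases comb_mem S h (g 0) (g 1) with h1 | h1
    · rcases comb_mem S h' (g 2) (g 3) with h2 | h2
      · exact absurd h2 (hd _ (hg ▸ h1))
      · exfalso
        rw [h2.1, h2.2, zero_smul, zero_smul, add_zero] at hg
        rw [hg] at h1
        obtain ⟨x, hx⟩ := Hy.of_mem S h h1
        exact Hy.ne_zero S hx rfl
    · refine ⟨h1, ?_⟩
      rcases comb_mem S h' (g 2) (g 3) with h2 | h2
      · exfalso
        rw [h1.1, h1.2, zero_smul, zero_smul, add_zero] at hg
        rw [← hg] at h2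
        obtain ⟨x, hx⟩ := Hy.of_mem S h' h2
        exact Hy.ne_zero S hx rfl
      · exact h2
  intro i
  fin_cases i
  · exact key.1.1
  · exact key.1.2
  · exact key.2.1
  · exact key.2.2

/-- Normal form of two planes. -/
theorem norm {s s' : Set V} {u v u' v' : V} (h : Hy S s u v) (h' : Hy S s' u' v') :
    ∃ a b a' b', Hy S s a b ∧ Hy S s' a' b' ∧ S.B a b' = 0 ∧ S.B b a' = 0 ∧
      ((S.B a a' = 0 ∧ S.B b b' = 0) ∨ (S.B a a' = 1 ∧ S.B b b' = 0) ∨ (S.B a a' = 1 ∧ S.B b b' = 1)) := by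
  -- step 1
  obtain ⟨u', v', h', h1⟩ : ∃ u₁ v₁, Hy S s' u₁ v₁ ∧ S.B u v₁ = 0 := by
    rcases S.two (S.B u v') with hb | hb
    · exact ⟨u', v', h', hb⟩
    · rcases S.two (S.B u u') with ha | ha
      · exact ⟨v', u', Hy.swap S h', ha⟩
      · exact ⟨u', u' + v', Hy.add S h', by rw [S.add_right, ha, hb, S.one_add_one]⟩
  -- step 2
  have hdiag : ∀ {u v u' v' : V}, Hy S s u v → Hy S s' u' v' → S.B u v' = 0 → S.B v u' = 0 →
      ∃ a b a' b', Hy S s a b ∧ Hy S s' a' b' ∧ S.B a b' = 0 ∧ S.B b a' = 0 ∧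
      ((S.B a a' = 0 ∧ S.B b b' = 0) ∨ (S.B a a' = 1 ∧ S.B b b' = 0) ∨ (S.B a a' = 1 ∧ S.B b b' = 1)) := by
    intro u v u' v' h h' h1 h2
    rcases S.two (S.B u u') with ha | ha <;> rcases S.two (S.B v v') with hd | hd
    · exact ⟨u, v, u', v', h, h', h1, h2, Or.inl ⟨ha, hd⟩⟩
    · exact ⟨v, u, v', u', Hy.swap S h, Hy.swap S h', h2, h1, Or.inr (Or.inl ⟨hd, ha⟩)⟩
    · exact ⟨u, v, u', v', h, h', h1, h2, Or.inr (Or.inl ⟨ha, hd⟩)⟩
    · exact ⟨u, v, u', v', h, h', h1, h2, Or.inr (Or.inr ⟨ha, hd⟩)⟩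
  rcases S.two (S.B v u') with hc | hc
  · exact hdiag h h' h1 hc
  · rcases S.two (S.B u u') with ha | ha
    · -- u ⟂ s'
      rcases S.two (S.B v v') with hd | hd
      · exact hdiag (Hy.swap S h) h' hd ha
      · -- replace v' by u' + v'
        refine hdiag (Hy.swap S h) (Hy.add S h') ?_ ha
        rw [S.add_right, hc, hd, S.one_add_one]
    · refine hdiag (Hy.add S h) h' h1 ?_
      rw [S.add_left, ha, hc, S.one_add_one]

/-! #### The types of pairs of planes -/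

/-- Two equal planes. -/
def P0 (p : Pl S × Pl S) : Prop := ∃ u v, Hy S p.1 u v ∧ Hy S p.2 u v

/-- Two planes meeting in a line. -/
def P1 (p : Pl S × Pl S) : Prop := ∃ u v w, Hy S p.1 u v ∧ Hy S p.2 u w ∧ S.B v w = 0 ∧ v ≠ w

/-- Two planes meeting trivially. -/
def P2 (a d : F) (p : Pl S × Pl S) : Prop := ∃ u v u' v', Hy S p.1 u v ∧ Hy S p.2 u' v' ∧
  LinearIndependent F ![u, v, u', v'] ∧ S.B u v' = 0 ∧ S.B v u' = 0 ∧ S.B u u' = a ∧ S.B v v' = d

/-- The five types. -/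
def P (t : Fin 5) : Pl S × Pl S → Prop := ![P0 S, P1 S, P2 S 0 0, P2 S 1 0, P2 S 1 1] t

theorem exists_P (p : Pl S × Pl S) : ∃ t, P S t p := by
  obtain ⟨⟨s, hs⟩, ⟨s', hs'⟩⟩ := p
  obtain ⟨u, v, h⟩ := hs
  obtain ⟨u', v', h'⟩ := hs'
  by_cases hss : s = s'
  · subst hss
    exact ⟨0, u, v, h, h⟩
  by_cases hd : ∀ w ∈ s, w ∉ s'
  · obtain ⟨a, b, a', b', e1, e2, e3, e4, e5⟩ := norm S h h'
    have h3 := indep4 S e1 e2 hd
    rcases e5 with ⟨e5, e6⟩ | ⟨e5, e6⟩ | ⟨e5, e6⟩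
    · exact ⟨2, a, b, a', b', e1, e2, h3, e3, e4, e5, e6⟩
    · exact ⟨3, a, b, a', b', e1, e2, h3, e3, e4, e5, e6⟩
    · exact ⟨4, a, b, a', b', e1, e2, h3, e3, e4, e5, e6⟩
  · push Not at hd
    obtain ⟨w, hw, hw'⟩ := hd
    obtain ⟨x, hx⟩ := Hy.of_mem S h hw
    obtain ⟨y, hy⟩ := Hy.of_mem S h' hw'
    obtain ⟨z, hz, hz0⟩ : ∃ z, Hy S s' w z ∧ S.B x z = 0 := by
      rcases S.two (S.B x y) with h0 | h0
      · exact ⟨y, hy, h0⟩
      · exact ⟨w + y, Hy.add S hy, by rw [S.add_right, S.symm x w, hx.1, h0, S.one_add_one]⟩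
    refine ⟨1, w, x, z, hx, hz, hz0, ?_⟩
    rintro rfl
    exact hss (hx.2.trans hz.2.symm)

/-- `G` is the full isometry group. -/
def Full : Prop := ∀ g : V ≃ₗ[F] V, (∀ u v, S.B (g u) (g v) = S.B u v) → ∃ g' : G, ∀ v, g' • v = g v

/-- The bilinear form. -/
def bil : LinearMap.BilinForm F V :=
  LinearMap.mk₂ F S.B S.add_left (fun a u v => by rw [S.smul_left, smul_eq_mul]) S.add_right
    (fun a u v => by rw [S.smul_right, smul_eq_mul])

theorem bil_apply (u v : V) : bil S u v = S.B u v := rfl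

variable {S}

/-- **Witt's theorem.** -/
theorem witt [Finite V] (hf : Full S) {ι : Type*} (x y : ι → V) (hx : LinearIndependent F x) (hy : LinearIndependent F y)
    (h : ∀ i j, S.B (x i) (x j) = S.B (y i) (y j)) : ∃ g : G, ∀ i, g • x i = y i := by
  have : FiniteDimensional F V := Module.Finite.of_finite
  have hnd : (bil S).Nondegenerate := by
    constructor
    · intro v hv
      exact S.nd v hv
    · intro v hv
      exact S.nd v fun w => by rw [S.symm]; exact hv w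
  obtain ⟨g, hg, hgx⟩ := Cfsg.Agent.H957.witt_family_alt (bil S) hnd (fun v => S.self v) x y hx hy h
  obtain ⟨g', hg'⟩ := hf g hg
  exact ⟨g', fun i => by rw [hg', hgx]⟩

theorem pl_trans [Finite V] (hf : Full S) : IsPretransitive G (Pl S) := by
  constructor
  rintro ⟨s, u, v, h⟩ ⟨s', u', v', h'⟩
  obtain ⟨g, hg⟩ := witt hf ![u, v] ![u', v'] (indep2 S h.1) (indep2 S h'.1) (by
    intro i j
    fin_cases i <;> fin_cases j
    · exact (S.self u).trans (S.self u').symm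
    · exact h.1.trans h'.1.symm
    · exact ((S.symm v u).trans h.1).trans ((S.symm v' u').trans h'.1).symm
    · exact (S.self v).trans (S.self v').symm)
  have g0 : g • u = u' := hg 0
  have g1 : g • v = v' := hg 1
  refine ⟨g, Subtype.ext ?_⟩
  change g • s = s'
  rw [h.2, smul_T, g0, g1, h'.2]

theorem P_orbit [Finite V] (hf : Full S) (t : Fin 5) (p q : Pl S × Pl S) (hp : P S t p) (hq : P S t q) :
    ∃ g : G, g • p = q := by
  obtain ⟨⟨s, hs⟩, ⟨s', hs'⟩⟩ := p
  obtain ⟨⟨r, hr⟩, ⟨r', hr'⟩⟩ := q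
  have fin : ∀ {u v u' v' a b a' b' : V}, Hy S s u v → Hy S s' u' v' → Hy S r a b → Hy S r' a' b' →
      ∀ g : G, g • u = a → g • v = b → g • u' = a' → g • v' = b' →
        g • ((⟨s, hs⟩, ⟨s', hs'⟩) : Pl S × Pl S) = (⟨r, hr⟩, ⟨r', hr'⟩) := by
    intro u v u' v' a b a' b' e1 e2 e3 e4 g g1 g2 g3 g4
    refine Prod.ext (Subtype.ext ?_) (Subtype.ext ?_)
    · change g • s = r
      rw [e1.2, smul_T, g1, g2, e3.2]
    · change g • s' = r'
      rw [e2.2, smul_T, g3, g4, e4.2]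
  have type2 : ∀ a d : F, P2 S a d (⟨s, hs⟩, ⟨s', hs'⟩) → P2 S a d (⟨r, hr⟩, ⟨r', hr'⟩) →
      ∃ g : G, g • ((⟨s, hs⟩, ⟨s', hs'⟩) : Pl S × Pl S) = (⟨r, hr⟩, ⟨r', hr'⟩) := by
    rintro a d ⟨u, v, u', v', h1, h2, hi, e1, e2, e3, e4⟩ ⟨x, y, x', y', k1, k2, ki, f1, f2, f3, f4⟩
    obtain ⟨g, hg⟩ := witt hf ![u, v, u', v'] ![x, y, x', y'] hi ki (by
      intro i j
      fin_cases i <;> fin_cases j
      · exact (S.self _).trans (S.self _).symm
      · exact h1.1.trans k1.1.symm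
      · exact e3.trans f3.symm
      · exact e1.trans f1.symm
      · exact ((S.symm _ _).trans h1.1).trans ((S.symm _ _).trans k1.1).symm
      · exact (S.self _).trans (S.self _).symm
      · exact e2.trans f2.symm
      · exact e4.trans f4.symm
      · exact ((S.symm _ _).trans e3).trans ((S.symm _ _).trans f3).symm
      · exact ((S.symm _ _).trans e2).trans ((S.symm _ _).trans f2).symm
      · exact (S.self _).trans (S.self _).symm
      · exact h2.1.trans k2.1.symm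
      · exact ((S.symm _ _).trans e1).trans ((S.symm _ _).trans f1).symm
      · exact ((S.symm _ _).trans e4).trans ((S.symm _ _).trans f4).symm
      · exact ((S.symm _ _).trans h2.1).trans ((S.symm _ _).trans k2.1).symm
      · exact (S.self _).trans (S.self _).symm)
    exact ⟨g, fin h1 h2 k1 k2 g (hg 0) (hg 1) (hg 2) (hg 3)⟩
  fin_cases t
  · obtain ⟨u, v, h1, h2⟩ := hp
    obtain ⟨x, y, k1, k2⟩ := hq
    obtain ⟨g, hg⟩ := witt hf ![u, v] ![x, y] (indep2 S h1.1) (indep2 S k1.1) (by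
      intro i j
      fin_cases i <;> fin_cases j
      · exact (S.self _).trans (S.self _).symm
      · exact h1.1.trans k1.1.symm
      · exact ((S.symm _ _).trans h1.1).trans ((S.symm _ _).trans k1.1).symm
      · exact (S.self _).trans (S.self _).symm)
    exact ⟨g, fin h1 h2 k1 k2 g (hg 0) (hg 1) (hg 0) (hg 1)⟩
  · obtain ⟨u, v, w, h1, h2, h3, h4⟩ := hp
    obtain ⟨x, y, z, k1, k2, k3, k4⟩ := hq
    obtain ⟨g, hg⟩ := witt hf ![u, v, w] ![x, y, z] (indep3 S h1.1 h2.1 h3 h4) (indep3 S k1.1 k2.1 k3 k4) (by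
      intro i j
      fin_cases i <;> fin_cases j
      · exact (S.self _).trans (S.self _).symm
      · exact h1.1.trans k1.1.symm
      · exact h2.1.trans k2.1.symm
      · exact ((S.symm _ _).trans h1.1).trans ((S.symm _ _).trans k1.1).symm
      · exact (S.self _).trans (S.self _).symm
      · exact h3.trans k3.symm
      · exact ((S.symm _ _).trans h2.1).trans ((S.symm _ _).trans k2.1).symm
      · exact ((S.symm _ _).trans h3).trans ((S.symm _ _).trans k3).symm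
      · exact (S.self _).trans (S.self _).symm)
    exact ⟨g, fin h1 h2 k1 k2 g (hg 0) (hg 1) (hg 0) (hg 2)⟩
  · exact type2 0 0 hp hq
  · exact type2 1 0 hp hq
  · exact type2 1 1 hp hq

theorem rank_pl [Finite V] (hf : Full S) : H894.rank G (Pl S) ≤ 4 + 1 := by
  have h := PermDeg.rank_le (G := G) (Ω := Pl S) (P S) (exists_P S) (P_orbit hf)
  simpa using h

end Planes

end Cfsg.Agent.H145.SpTwo
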