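import Cfsg.Agent.H145.SpTwo

/-!
# The number of nondegenerate planes, five character degrees of `Sp_{2m}(2)`

(helper145, for S4898.)
-/

set_option autoImplicit false
set_option linter.unusedSectionVars false

namespace Cfsg.Agent.H145.SpTwo

open Cfsg Cfsg.Agent.H79.MinIdxSp2 MulAction
open scoped Pointwise

variable {F V G : Type*} [Field F] [AddCommGroup V] [Module F V] [Group G] [DistribMulAction G V] (S : Sp2 F V G)

theorem card_one [Finite V] {u : V} (hu : u ≠ 0) : 2 * Nat.card {v // S.B u v = 1} = Nat.card V := by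
  obtain ⟨f, hf⟩ := S.exists_hyp hu
  have e : {v // S.B u v = 1} ≃ {v // ¬ S.B u v = 1} := by
    refine ⟨fun v => ⟨v.1 + f, ?_⟩, fun v => ⟨v.1 + f, ?_⟩, ?_, ?_⟩
    · rw [S.add_right, v.2, hf, S.one_add_one]; exact zero_ne_one
    · rw [S.add_right, S.ne_one.1 v.2, hf, zero_add]
    · intro v
      exact Subtype.ext (by change v.1 + f + f = v.1; rw [add_assoc, S.add_self, add_zero])
    · intro v
      exact Subtype.ext (by change v.1 + f + f = v.1; rw [add_assoc, S.add_self, add_zero])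
  have h1 := Nat.card_congr e
  have h2 : Nat.card V = Nat.card {v // S.B u v = 1} + Nat.card {v // ¬ S.B u v = 1} := by
    classical
    rw [← Nat.card_sum]
    exact Nat.card_congr (Equiv.sumCompl _).symm
  omega

/-- The number of hyperbolic pairs. -/
theorem card_hp [Finite V] : 2 * Nat.card {p : V × V // S.B p.1 p.2 = 1} = (Nat.card V - 1) * Nat.card V := by
  classical
  have := Fintype.ofFinite V
  have e : {p : V × V // S.B p.1 p.2 = 1} ≃ Σ u : V, {v // S.B u v = 1} :=
    ⟨fun p => ⟨p.1.1, p.1.2, p.2⟩, fun p => ⟨(p.1, p.2.1), p.2.2⟩, fun _ => rfl, fun _ => rfl⟩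
  rw [Nat.card_congr e, Nat.card_sigma, Finset.mul_sum]
  rw [← Finset.add_sum_erase _ _ (Finset.mem_univ (0 : V))]
  have h0 : Nat.card {v // S.B 0 v = 1} = 0 := by
    rw [Nat.card_eq_zero]
    left
    exact ⟨fun v => zero_ne_one ((S.zero_left v.1).symm.trans v.2)⟩
  rw [h0, mul_zero, zero_add, Finset.sum_congr rfl (fun u hu => card_one S (Finset.ne_of_mem_erase hu)), Finset.sum_const,
    Finset.card_erase_of_mem (Finset.mem_univ _), Finset.card_univ, smul_eq_mul, Nat.card_eq_fintype_card]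

theorem card_fib {s : Set V} {u v : V} (h : Hy S s u v) : Nat.card {p : V × V // Hy S s p.1 p.2} = 6 := by
  classical
  have h1 : s = (({u, v, u + v} : Finset V) : Set V) := by
    rw [h.2, T]
    simp
  have hc : ({u, v, u + v} : Finset V).card = 3 := by
    rw [Finset.card_eq_three]
    refine ⟨u, v, u + v, Hy.ne S h, ?_, ?_, rfl⟩
    · exact Hy.ne S (Hy.add S h)
    · exact (Hy.ne S (Hy.add' S h)).symm
  have e : {p : V × V // Hy S s p.1 p.2} ≃ (({u, v, u + v} : Finset V).offDiag) := by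
    refine Equiv.subtypeEquivRight fun p => ?_
    rw [Finset.mem_offDiag]
    have hm : ∀ w, w ∈ ({u, v, u + v} : Finset V) ↔ w ∈ s := fun w => by rw [h1, Finset.mem_coe]
    rw [hm, hm]
    constructor
    · intro hp
      exact ⟨Hy.mem_left S hp, Hy.mem_right S hp, Hy.ne S hp⟩
    · rintro ⟨ha, hb, hab⟩
      exact Hy.of_ne S h ha hb hab
  rw [Nat.card_congr e, Nat.card_eq_fintype_card, Fintype.card_coe, Finset.offDiag_card, hc]

/-- **The number of nondegenerate planes.** -/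
theorem card_pl [Finite V] : 12 * Nat.card (Pl S) = (Nat.card V - 1) * Nat.card V := by
  classical
  have := Fintype.ofFinite (Pl S)
  have e : {p : V × V // S.B p.1 p.2 = 1} ≃ Σ s : Pl S, {p : V × V // Hy S (s : Set V) p.1 p.2} :=
    { toFun := fun p => ⟨⟨T p.1.1 p.1.2, p.1.1, p.1.2, p.2, rfl⟩, p.1, p.2, rfl⟩
      invFun := fun x => ⟨x.2.1, x.2.2.1⟩
      left_inv := fun p => rfl
      right_inv := by
        rintro ⟨⟨s, hs⟩, ⟨p, hp⟩⟩
        have h : s = T p.1 p.2 := hp.2
        subst h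
        rfl }
  have h1 : Nat.card {p : V × V // S.B p.1 p.2 = 1} = Nat.card (Pl S) * 6 := by
    rw [Nat.card_congr e, Nat.card_sigma, Finset.sum_congr rfl (fun s _ => ?_), Finset.sum_const, Finset.card_univ, smul_eq_mul,
      Nat.card_eq_fintype_card]
    obtain ⟨u, v, h⟩ := s.2
    exact card_fib S h
  rw [← card_hp S, h1]
  ring

/-- **Five character degrees.** -/
theorem five [Finite G] [Finite V] {m : ℕ} (hm : 3 ≤ m) (hV : Nat.card V = 2 ^ (2 * m)) (hf : Full S) {Q : V → F}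
    (hQ : ∀ u v, Q (u + v) = Q u + Q v + S.B u v) {χ₀ : G → ℂ} (h0 : IsIrrCharacter G χ₀) {s : ℕ} (hs : χ₀ 1 = s)
    (hsm : 2 ^ (m ^ 2) ≤ s) : 5 ≤ (charDegrees G).ncard := by
  classical
  have h1m : 1 ≤ 2 ^ m := Nat.one_le_two_pow
  set x := 2 ^ (m - 1) with hx
  have h2x : 2 ^ m = 2 * x := by rw [hx, ← pow_succ', Nat.sub_add_cancel (by omega)]
  have hx4 : 4 ≤ x := by
    calc 4 = 2 ^ 2 := by norm_num
      _ ≤ 2 ^ (m - 1) := Nat.pow_le_pow_right (by norm_num) (by omega)
  have hV2 : Nat.card V = (2 * x) * (2 * x) := by rw [hV, two_mul, pow_add, h2x]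
  obtain ⟨⟨Q1, hQ1, hc1⟩, ⟨Q2, hQ2, hc2⟩⟩ := exists_forms S hQ (m := m) (by omega) hV
  have hc1' : Nat.card (orbit G (Sp2.Fn.mk Q1)) = x * (2 * x + 1) := by rw [card_orbit S hQ1, hc1, h2x]
  have hc2' : Nat.card (orbit G (Sp2.Fn.mk Q2)) = x * (2 * x - 1) := by rw [card_orbit S hQ2, hc2, h2x]
  have hb1 : 36 ≤ x * (2 * x + 1) := by nlinarith
  have hb2 : 28 ≤ x * (2 * x - 1) := by
    calc 28 = 4 * 7 := by norm_num
      _ ≤ x * (2 * x - 1) := Nat.mul_le_mul hx4 (by omega)
  have hlt : x * (2 * x - 1) < x * (2 * x + 1) := Nat.mul_lt_mul_of_pos_left (by omega) (by omega)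
  have : Finite (orbit G (Sp2.Fn.mk Q1)) := Nat.finite_of_card_ne_zero (by omega)
  have : Finite (orbit G (Sp2.Fn.mk Q2)) := Nat.finite_of_card_ne_zero (by omega)
  obtain ⟨χ1, h1, hd1⟩ := PermDeg.exists_deg_two (two_trans S hQ1) (by omega)
  obtain ⟨χ2, h2, hd2⟩ := PermDeg.exists_deg_two (two_trans S hQ2) (by omega)
  rw [hc1'] at hd1
  rw [hc2'] at hd2
  have hN := card_pl S
  rw [hV2] at hN
  have hxx : 16 ≤ x * x := Nat.mul_le_mul hx4 hx4
  have hbig : 4 * (x * (2 * x + 1) - 1) + 1 < Nat.card (Pl S) := by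
    have h3 : x * (2 * x + 1) = 2 * (x * x) + x := by ring
    have h4 : (2 * x) * (2 * x) = 4 * (x * x) := by ring
    rw [h4] at hN
    rw [h3]
    have h5 : x ≤ x * x := Nat.le_mul_of_pos_left _ (by omega)
    have h6 : 63 * (4 * (x * x)) ≤ (4 * (x * x) - 1) * (4 * (x * x)) := Nat.mul_le_mul_right _ (by omega)
    have h7 : 4 * x ≤ x * x := Nat.mul_le_mul hx4 (le_refl x)
    omega
  have hsmall : Nat.card (Pl S) < 2 ^ (m ^ 2) := by
    have h3 : (2 * x) * (2 * x) = 2 ^ (2 * m) := by rw [← h2x, ← pow_add, two_mul]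
    rw [h3] at hN
    have h4 : 12 * Nat.card (Pl S) ≤ 2 ^ (2 * m) * 2 ^ (2 * m) := by
      rw [hN]
      exact Nat.mul_le_mul_right _ (Nat.sub_le _ _)
    have h5 : 2 ^ (2 * m) * 2 ^ (2 * m) = 8 * 2 ^ (4 * m - 3) := by
      rw [← pow_add, show (8 : ℕ) = 2 ^ 3 by norm_num, ← pow_add]
      congr 1
      omega
    have h6 : 4 * m - 3 ≤ m ^ 2 := by
      obtain ⟨k, rfl⟩ : ∃ k, m = k + 3 := ⟨m - 3, by omega⟩
      have : (k + 3) ^ 2 = k ^ 2 + 6 * k + 9 := by ring
      rw [this]
      have : 0 ≤ k ^ 2 := Nat.zero_le _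
      omega
    have h7 : 2 ^ (4 * m - 3) ≤ 2 ^ (m ^ 2) := Nat.pow_le_pow_right (by norm_num) h6
    have h8 : 0 < 2 ^ (m ^ 2) := by positivity
    omega
  have : Nonempty (Pl S) := by
    by_contra hcon
    rw [not_nonempty_iff] at hcon
    have h3 : Nat.card (Pl S) = 0 := Nat.card_eq_zero.2 (Or.inl hcon)
    omega
  have : Finite (Pl S) := Nat.finite_of_card_ne_zero (by omega)
  obtain ⟨χ3, d, h3, hd3, hd3a, hd3b⟩ := PermDeg.exists_deg (pl_trans hf) (R := 4) (rank_pl hf) hbig
  have hmem : ∀ {χ : G → ℂ} (_ : IsIrrCharacter G χ) {n : ℕ} (_ : χ 1 = n), n ∈ charDegrees G := by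
    intro χ hχ n hn
    refine ⟨⟨χ, hχ⟩, ?_⟩
    change charDegree χ = n
    rw [charDegree, hn]
    simp
  have hfin : (charDegrees G).Finite := by
    have := Cfsg.Agent.Characters.Core.finite_irr (G := G)
    have h : charDegrees G = Set.range (fun χ : IrrCharacter G => charDegree (χ : G → ℂ)) := by
      ext d
      simp [charDegrees]
    rw [h]
    exact Set.finite_range _
  have m0 : 1 ∈ charDegrees G := hmem Cfsg.Agent.Characters.Core.isIrr_one (by simp)
  have m1 := hmem h1 hd1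
  have m2 := hmem h2 hd2
  have m3 := hmem h3 hd3
  have m4 := hmem h0 hs
  have hsub : (({1, x * (2 * x - 1) - 1, x * (2 * x + 1) - 1, d, s} : Finset ℕ) : Set ℕ) ⊆ charDegrees G := by
    intro n hn
    simp only [Finset.coe_insert, Finset.coe_singleton, Set.mem_insert_iff, Set.mem_singleton_iff] at hn
    rcases hn with rfl | rfl | rfl | rfl | rfl <;> assumption
  have hcard : ({1, x * (2 * x - 1) - 1, x * (2 * x + 1) - 1, d, s} : Finset ℕ).card = 5 := by
    rw [Finset.card_insert_of_notMem, Finset.card_insert_of_notMem, Finset.card_insert_of_notMem, Finset.card_insert_of_notMem,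
      Finset.card_singleton]
    · simp only [Finset.mem_singleton]; omega
    · simp only [Finset.mem_insert, Finset.mem_singleton]; omega
    · simp only [Finset.mem_insert, Finset.mem_singleton]; omega
    · simp only [Finset.mem_insert, Finset.mem_singleton]; omega
  rw [← hcard, ← Set.ncard_coe_finset]
  exact Set.ncard_le_ncard hsub hfin

end Cfsg.Agent.H145.SpTwo
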