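import Cfsg.Agent.H145.U3Psu
import Cfsg.Agent.H145.AlmostR1

/-!
# An almost simple group with socle `PSU₃(q)` has the rank one structure

(helper145, for S4898.)
-/

set_option autoImplicit false

namespace Cfsg.Agent.H145.U3Geo

open Matrix Cfsg Cfsg.Agent.Characters.Core
  Cfsg.Agent.LieClassical.HermBasic Cfsg.Agent.LieClassical.HermSiegel Cfsg.Agent.LieClassical.HermGen
  Cfsg.Agent.LieClassical.SUBasic Cfsg.Agent.ClassicalGeometry.PSUAutBasic
  Cfsg.Agent.H961.LineChar Cfsg.Agent.H618.InvPSU3 Cfsg.Agent.H145.U3Sum Cfsg.Agent.H145.RankOne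
  Cfsg.Agent.H145.U3Op Cfsg.Agent.H145.U3Ker Cfsg.Agent.H145.U3Ind

open Cfsg.Agent.ClassicalGeometry.PSUAutCount (gm semiConj toAut herm_gm act_semiConj herm_semi
  gm_inv_mulVec gm_mulVec_inv guConj act_guConj gm_mul gm_one)
open Cfsg.Agent.ClassicalGeometry.UnitAutBasic (T c0 c0_ne_zero c0_tr exists_c0_mul_norm act_T act_T_smul conj_T)

variable {F : Type*} [Field F] [Fintype F] {q : ℕ} {e f : Fin 3 → F}

/-- The stabilizer of the isotropic vector `e` is the group of Siegel transformations. -/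
theorem mem_siegG_iff (hF : Fintype.card F = q ^ 2) (H : IsFrame q e f) (g : SU 3 F q) :
    g ∈ siegG hF e H.ee ↔ act g e = e := by
  constructor
  · rintro ⟨w, μ, h, rfl⟩
    exact act_siegel_self hF h
  · intro hg
    have hp := hp_of_frame hF H
    have hfe : hermForm 3 F q f e = 1 := hp.zx hF
    have h1 : hermForm 3 F q (act g f) e = 1 := by
      have : hermForm 3 F q (act g f) (act g e) = 1 := by rw [herm_act, hfe]
      rwa [hg] at this
    obtain ⟨c, μ, h, hu⟩ := exists_siegel_map hF (u := e) (v := act g f) (v' := f) H.ee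
      (by rw [herm_act]) (by rw [h1, hfe]) (by rw [h1]; exact one_ne_zero)
    obtain ⟨σ, hσ, hσe, hσf⟩ : ∃ σ ∈ siegG hF e H.ee, act σ e = e ∧ act σ (act g f) = f :=
      ⟨_, ⟨_, _, h, rfl⟩, act_siegel_self hF h, hu⟩
    set k := σ * g with hk
    have hke : act k e = e := by rw [hk, act_mul, hg, hσe]
    have hkf : act k f = f := by rw [hk, act_mul, hσf]
    have hspan : ∀ i : Fin 3, i ≠ 0 → act k (Pi.single i 1) = Pi.single i 1 := by
      intro i hi
      have h2 := hp.span (Pi.single i 1)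
      have h3 : hermForm 3 F q (Pi.single i 1) (Pi.single 0 1) = 0 := by
        rw [herm_single_left, Pi.single_eq_of_ne hi, zero_pow_q hF, mul_zero]
      rw [h3, zero_smul, add_zero] at h2
      rw [h2, act_add, act_smul, act_smul, hke, hkf]
    have hw : act k (Pi.single 0 1) = hermForm 3 F q (act k (Pi.single 0 1)) (Pi.single 0 1) • (Pi.single 0 1 : Fin 3 → F) := by
      have h2 := hp.span (act k (Pi.single 0 1))
      have h3 : hermForm 3 F q (act k (Pi.single 0 1)) e = 0 := by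
        have : hermForm 3 F q (act k (Pi.single 0 1)) (act k e) = 0 := by rw [herm_act, hp.wx]
        rwa [hke] at this
      have h4 : hermForm 3 F q (act k (Pi.single 0 1)) f = 0 := by
        have : hermForm 3 F q (act k (Pi.single 0 1)) (act k f) = 0 := by rw [herm_act, hp.wz]
        rwa [hkf] at this
      rw [h3, h4, zero_smul, zero_smul, zero_add, add_zero] at h2
      exact h2
    set τ := hermForm 3 F q (act k (Pi.single 0 1)) (Pi.single 0 1) with hτ
    have hmat : ∀ i j, mat k j i = (if i = 0 then τ else 1) * (if j = i then 1 else 0) := by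
      intro i j
      rw [← act_single]
      by_cases hi : i = 0
      · subst hi
        rw [hw, if_pos rfl, Pi.smul_apply, smul_eq_mul, Pi.single_apply]
      · rw [hspan i hi, if_neg hi, one_mul, Pi.single_apply]
    have hτ1 : τ = 1 := by
      have h2 := det_mat k
      rw [Matrix.det_fin_three] at h2
      simp only [hmat] at h2
      simpa using h2
    have hk1 : k = 1 := by
      apply mat_injective
      ext j i
      rw [hmat, hτ1, mat_one, Matrix.one_apply]
      simp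
    have h5 : g = σ⁻¹ := by
      rw [hk, mul_eq_one_iff_inv_eq] at hk1
      exact hk1.symm
    rw [h5]
    exact (siegG hF e H.ee).inv_mem hσ

/-- The situation: `π : SU₃(q) → G` with central kernel, every element of `G` acting semilinearly. -/
structure Sit {G : Type*} [Group G] (π : SU 3 F q →* G) : Prop where
  ker : ∀ s, π s = 1 ↔ s ∈ Subgroup.center (SU 3 F q)
  ind : ∀ g, ∃ (A : Cfsg.GU 3 F q) (ρ : F ≃+* F), ∀ s, g * π s * g⁻¹ = π (semiConj A ρ s)
  cent : ∀ g, (∀ s, g * π s = π s * g) → g = 1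

namespace Sit

variable {G : Type*} [Group G] {π : SU 3 F q →* G}

/-- The root subgroup in `G`. -/
def UU (π : SU 3 F q →* G) (hF : Fintype.card F = q ^ 2) (H : IsFrame q e f) : Subgroup G :=
  (siegG hF e H.ee).map π

/-- Its normalizer. -/
def HH (π : SU 3 F q →* G) (hF : Fintype.card F = q ^ 2) (H : IsFrame q e f) : Subgroup G :=
  Subgroup.normalizer (UU π hF H : Set G)

omit [Fintype F] in
theorem eq_of (S : Sit π) {s t : SU 3 F q} (h : π s = π t) : ∃ z ∈ Subgroup.center (SU 3 F q), s = t * z := by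
  refine ⟨t⁻¹ * s, ?_, by group⟩
  rw [← S.ker, map_mul, map_inv, h, inv_mul_cancel]

theorem inj_siegG (hF : Fintype.card F = q ^ 2) (H : IsFrame q e f) (S : Sit π) {s t : SU 3 F q}
    (hs : s ∈ siegG hF e H.ee) (ht : t ∈ siegG hF e H.ee) (h : π s = π t) : s = t := by
  obtain ⟨z, hz, rfl⟩ := S.eq_of h
  obtain ⟨c, -, -, hc⟩ := exists_scalar_of_mem_center hF le_rfl hz
  rw [mem_siegG_iff hF H] at hs ht
  rw [act_mul, hc, act_smul, ht] at hs
  have h1 : c = 1 := by
    have h2 : (c - 1) • e = 0 := by rw [sub_smul, hs, one_smul, sub_self]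
    exact sub_eq_zero.1 ((smul_eq_zero.1 h2).resolve_right (e_ne H))
  have h2 : z = 1 := by
    apply ext_act
    intro v
    rw [hc, h1, one_smul, act_one]
  rw [h2, mul_one]

theorem card_UU (hF : Fintype.card F = q ^ 2) (H : IsFrame q e f) (S : Sit π) : Nat.card (UU π hF H) = q ^ 3 := by
  rw [← card_U hF H]
  symm
  refine Nat.card_congr (Equiv.ofBijective (fun s : siegG hF e H.ee => (⟨π s, ⟨s, s.2, rfl⟩⟩ : UU π hF H)) ⟨?_, ?_⟩)
  · intro s t h
    exact Subtype.ext (S.inj_siegG hF H s.2 t.2 (congrArg Subtype.val h))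
  · rintro ⟨_, ⟨s, hs, rfl⟩⟩
    exact ⟨⟨s, hs⟩, rfl⟩

/-- A transvection in the root subgroup has centre `e`. -/
theorem smul_of_T (hF : Fintype.card F = q ^ 2) (H : IsFrame q e f) (S : Sit π) {v : Fin 3 → F}
    (hv : hermForm 3 F q v v = 0) (h : π (T hF v) ∈ UU π hF H) : ∃ c : F, v = c • e := by
  obtain ⟨s, hs, hsT⟩ := h
  obtain ⟨z, hz, hst⟩ := S.eq_of hsT
  obtain ⟨c, hc0, -, hc⟩ := exists_scalar_of_mem_center hF le_rfl hz
  have hs' := (mem_siegG_iff hF H s).1 hs
  rw [hst, act_mul, hc, act_smul, act_T hF hv] at hs'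
  -- `c (e + (c0 h(e,v)) v) = e`
  have h1 : hermForm 3 F q e v = 0 := by
    by_contra h1
    apply h1
    have h2 : (c0 hF * hermForm 3 F q e v) • v = (c⁻¹ - 1) • e := by
      have h3 := congrArg (fun x => c⁻¹ • x) hs'
      simp only [smul_smul, inv_mul_cancel₀ hc0, one_smul] at h3
      rw [sub_smul, one_smul, ← h3]
      abel
    have h4 : v = ((c0 hF * hermForm 3 F q e v)⁻¹ * (c⁻¹ - 1)) • e := by
      rw [← smul_smul, ← h2, smul_smul, inv_mul_cancel₀ (mul_ne_zero (c0_ne_zero hF) h1), one_smul]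
    rw [h4, herm_smul_right, H.ee, mul_zero]
  exact smul_of_orth hF (e_ne H) H.ee hv (herm_eq_zero_swap hF h1)

/-- Elements mapping the line of `e` to itself normalize the root subgroup. -/
theorem mem_HH_iff (hF : Fintype.card F = q ^ 2) (H : IsFrame q e f) (S : Sit π) {g : G} {A : Cfsg.GU 3 F q}
    {ρ : F ≃+* F} (hg : ∀ s, g * π s * g⁻¹ = π (semiConj A ρ s)) :
    g ∈ HH π hF H ↔ ∃ c : F, (gm A *ᵥ fun i => ρ (e i)) = c • e := by
  constructor
  · intro h
    have h1 : g * π (T hF e) * g⁻¹ ∈ UU π hF H :=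
      (Subgroup.mem_normalizer_iff.1 h _).1 ⟨_, T_mem hF H, rfl⟩
    rw [hg] at h1
    obtain ⟨r, hr0, hr⟩ := Cfsg.Agent.ClassicalGeometry.PSUAutCount.exists_r hF ρ
    rw [semiConj_T hF A ρ hr H.ee] at h1
    obtain ⟨c, hc⟩ := S.smul_of_T hF H (v := r • (gm A *ᵥ fun i => ρ (e i)))
      (by rw [herm_smul_left, herm_smul_right, herm_semi, H.ee, map_zero]; ring)
      h1
    refine ⟨r⁻¹ * c, ?_⟩
    rw [← smul_smul, ← hc, smul_smul, inv_mul_cancel₀ hr0, one_smul]
  · rintro ⟨c, hc⟩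
    have hc0 : c ≠ 0 := by
      rintro rfl
      rw [zero_smul] at hc
      exact semi_ne A ρ (e_ne H) hc
    have hiff : ∀ s : SU 3 F q, act s e = e ↔ act (semiConj A ρ s) e = e := by
      intro s
      have h1 := act_semiConj A ρ s e
      rw [hc, act_smul] at h1
      constructor
      · intro h
        rw [h, hc] at h1
        exact smul_right_injective _ hc0 h1
      · intro h
        rw [h, ← hc] at h1
        have h2 := congrArg (gm A⁻¹ *ᵥ ·) h1
        simp only [gm_inv_mulVec] at h2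
        funext i
        exact (ρ.injective (congrFun h2 i)).symm
    rw [HH, Subgroup.mem_normalizer_iff]
    intro x
    constructor
    · rintro ⟨s, hs, rfl⟩
      rw [hg]
      exact ⟨_, (mem_siegG_iff hF H _).2 ((hiff s).1 ((mem_siegG_iff hF H s).1 hs)), rfl⟩
    · rintro ⟨t, ht, htx⟩
      obtain ⟨s, rfl⟩ := (semiConj A ρ).surjective t
      have h1 : x = π s := by
        rw [← hg] at htx
        have h2 : x = g⁻¹ * (g * x * g⁻¹) * g := by group
        rw [h2, ← htx]; group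
      rw [h1]
      exact ⟨s, (mem_siegG_iff hF H s).2 ((hiff s).2 ((mem_siegG_iff hF H _).1 ht)), rfl⟩

theorem pi_mem_HH_iff (hF : Fintype.card F = q ^ 2) (H : IsFrame q e f) (S : Sit π) (s : SU 3 F q) :
    π s ∈ HH π hF H ↔ s ∈ lineStab (rho F q) e := by
  constructor
  · intro h
    have h1 : π s * π (T hF e) * (π s)⁻¹ ∈ UU π hF H :=
      (Subgroup.mem_normalizer_iff.1 h _).1 ⟨_, T_mem hF H, rfl⟩
    rw [← map_inv, ← map_mul, ← map_mul, conj_T hF s H.ee] at h1
    have hs0 : act s e ≠ 0 := fun h => e_ne H ((act_eq_zero s).1 h)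
    obtain ⟨c, hc⟩ := S.smul_of_T hF H (v := act s e) (by rw [herm_act, H.ee]) h1
    have hc0 : c ≠ 0 := by
      rintro rfl
      rw [zero_smul] at hc
      exact hs0 hc
    exact ⟨Units.mk0 c hc0, hc⟩
  · rintro ⟨a, ha⟩
    rw [rho_mulVec] at ha
    have hiff : ∀ t : SU 3 F q, act t e = e ↔ act (s * t * s⁻¹) e = e := by
      intro t
      have h1 : act s⁻¹ e = (a : F)⁻¹ • e := by
        have h2 := congrArg (act s⁻¹) ha
        rw [act_inv_act, act_smul] at h2
        rw [h2, smul_smul, inv_mul_cancel₀ a.ne_zero, one_smul, ← h2]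
      rw [act_mul, act_mul, h1, act_smul, act_smul]
      constructor
      · intro h
        rw [h, ha, smul_smul, inv_mul_cancel₀ a.ne_zero, one_smul]
      · intro h
        have h2 := congrArg (act s⁻¹) h
        rw [act_smul, act_inv_act, h1] at h2
        exact smul_right_injective _ (inv_ne_zero a.ne_zero) h2
    rw [HH, Subgroup.mem_normalizer_iff]
    intro x
    constructor
    · rintro ⟨t, ht, rfl⟩
      rw [← map_inv, ← map_mul, ← map_mul]
      exact ⟨_, (mem_siegG_iff hF H _).2 ((hiff t).1 ((mem_siegG_iff hF H t).1 ht)), rfl⟩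
    · rintro ⟨t, ht, htx⟩
      have h1 : x = π (s⁻¹ * t * s) := by
        rw [map_mul, map_mul, htx, map_inv]; group
      rw [h1]
      refine ⟨_, (mem_siegG_iff hF H _).2 ((hiff _).2 ?_), rfl⟩
      have h2 : s * (s⁻¹ * t * s) * s⁻¹ = t := by group
      rw [h2]
      exact (mem_siegG_iff hF H _).1 ht

/-- The Frattini argument. -/
theorem frattini (hF : Fintype.card F = q ^ 2) (H : IsFrame q e f) (S : Sit π) (g : G) :
    ∃ s : SU 3 F q, ∃ h ∈ HH π hF H, g = π s * h := by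
  obtain ⟨A, ρ, hg⟩ := S.ind g
  obtain ⟨s, hs⟩ := exists_map hF (e_ne H) (semi_ne A ρ (e_ne H)) H.ee (by rw [herm_semi, H.ee, map_zero])
  refine ⟨s, (π s)⁻¹ * g, ?_, by group⟩
  obtain ⟨B, κ, hh⟩ := S.ind ((π s)⁻¹ * g)
  -- normalizes directly
  have hiff : ∀ t : SU 3 F q, act t e = e ↔ act (s⁻¹ * semiConj A ρ t * s) e = e := by
    intro t
    rw [act_mul, act_mul, hs, act_semiConj]
    have h1 : act s⁻¹ (gm A *ᵥ fun i => ρ (e i)) = e := by rw [← hs, act_inv_act]
    constructor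
    · intro h
      rw [h, h1]
    · intro h
      have h2 := congrArg (act s) h
      rw [act_act_inv, hs] at h2
      exact semi_inj A ρ h2
  have hconj : ∀ t : SU 3 F q, ((π s)⁻¹ * g) * π t * ((π s)⁻¹ * g)⁻¹ = π (s⁻¹ * semiConj A ρ t * s) := by
    intro t
    rw [map_mul, map_mul, ← hg, map_inv]; group
  rw [HH, Subgroup.mem_normalizer_iff]
  intro x
  constructor
  · rintro ⟨t, ht, rfl⟩
    rw [hconj]
    exact ⟨_, (mem_siegG_iff hF H _).2 ((hiff t).1 ((mem_siegG_iff hF H t).1 ht)), rfl⟩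
  · rintro ⟨t, ht, htx⟩
    obtain ⟨r, hr⟩ := (semiConj A ρ).surjective (s * t * s⁻¹)
    have h0 : t = s⁻¹ * semiConj A ρ r * s := by rw [hr]; group
    have h1 : x = π r := by
      rw [h0, ← hconj] at htx
      have h2 : x = ((π s)⁻¹ * g)⁻¹ * (((π s)⁻¹ * g) * x * ((π s)⁻¹ * g)⁻¹) * ((π s)⁻¹ * g) := by group
      rw [h2, ← htx]; group
    rw [h1]
    refine ⟨r, (mem_siegG_iff hF H r).2 ((hiff r).2 ?_), rfl⟩
    rw [← h0]
    exact (mem_siegG_iff hF H t).1 ht

/-- **The rank one structure.** -/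
theorem r1 (hF : Fintype.card F = q ^ 2) (H : IsFrame q e f) (S : Sit π) : R1 (HH π hF H) (UU π hF H) where
  le := Subgroup.le_normalizer
  ne_top := by
    obtain ⟨x, hx⟩ := (U3Ind.r1 hF H).ne_top
    exact ⟨π x, fun h => hx ((S.pi_mem_HH_iff hF H x).1 h)⟩
  tr := by
    intro x hx y hy
    obtain ⟨s, h, hh, rfl⟩ := S.frattini hF H x
    obtain ⟨t, k, hk, rfl⟩ := S.frattini hF H y
    have hs : s ∉ lineStab (rho F q) e := fun h' =>
      hx ((HH π hF H).mul_mem ((S.pi_mem_HH_iff hF H s).2 h') hh)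
    have ht : t ∉ lineStab (rho F q) e := fun h' =>
      hy ((HH π hF H).mul_mem ((S.pi_mem_HH_iff hF H t).2 h') hk)
    obtain ⟨u, hu, b, hb, rfl⟩ := (U3Ind.r1 hF H).tr s hs t ht
    refine ⟨π u, ⟨u, hu, rfl⟩, h⁻¹ * π b * k, ?_, ?_⟩
    · exact (HH π hF H).mul_mem ((HH π hF H).mul_mem ((HH π hF H).inv_mem hh) ((S.pi_mem_HH_iff hF H b).2 hb)) hk
    · rw [map_mul, map_mul]; group
  free := by
    rintro _ ⟨u, hu, rfl⟩ hu1 x hx hmem
    obtain ⟨s, h, hh, rfl⟩ := S.frattini hF H x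
    have hs : s ∉ lineStab (rho F q) e := fun h' =>
      hx ((HH π hF H).mul_mem ((S.pi_mem_HH_iff hF H s).2 h') hh)
    have hu1' : u ≠ 1 := by
      rintro rfl
      exact hu1 (map_one π)
    apply (U3Ind.r1 hF H).free u hu hu1' s hs
    rw [← S.pi_mem_HH_iff hF H, map_mul, map_mul, map_inv]
    have h1 : (π s)⁻¹ * π u * π s = h * ((π s * h)⁻¹ * π u * (π s * h)) * h⁻¹ := by group
    rw [h1]
    exact (HH π hF H).mul_mem ((HH π hF H).mul_mem hh hmem) ((HH π hF H).inv_mem hh)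

omit [Fintype F] in
theorem guConj_mul (A B : Cfsg.GU 3 F q) (s : SU 3 F q) : guConj (A * B) s = guConj A (guConj B s) := by
  apply ext_act
  intro x
  rw [act_guConj, act_guConj, act_guConj, _root_.mul_inv_rev, gm_mul, gm_mul]
  simp only [act_def, mulVec_mulVec, Matrix.mul_assoc]

omit [Fintype F] in
theorem guConj_one (s : SU 3 F q) : guConj (1 : Cfsg.GU 3 F q) s = s := by
  apply ext_act
  intro x
  rw [act_guConj, inv_one, gm_one, one_mulVec, one_mulVec]

/-- The elements inducing inner-diagonal automorphisms. -/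
def CC (π : SU 3 F q →* G) : Subgroup G where
  carrier := {g | ∃ A : Cfsg.GU 3 F q, ∀ s, g * π s * g⁻¹ = π (guConj A s)}
  one_mem' := ⟨1, fun s => by rw [guConj_one]; group⟩
  mul_mem' := by
    rintro g h ⟨A, hA⟩ ⟨B, hB⟩
    refine ⟨A * B, fun s => ?_⟩
    rw [guConj_mul, ← hA, ← hB]; group
  inv_mem' := by
    rintro g ⟨A, hA⟩
    refine ⟨A⁻¹, fun s => ?_⟩
    have h1 := hA (guConj A⁻¹ s)
    rw [← guConj_mul, mul_inv_cancel, guConj_one] at h1
    rw [← h1]; group

omit [Fintype F] in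
theorem mem_CC {g : G} : g ∈ CC π ↔ ∃ A : Cfsg.GU 3 F q, ∀ s, g * π s * g⁻¹ = π (guConj A s) := Iff.rfl

omit [Fintype F] in
theorem semiConj_refl (A : Cfsg.GU 3 F q) (s : SU 3 F q) : semiConj A (RingEquiv.refl F) s = guConj A s := by
  apply ext_act
  intro x
  have h1 := act_semiConj A (RingEquiv.refl F) s (gm A⁻¹ *ᵥ x)
  have h2 : (fun i => (RingEquiv.refl F) ((gm A⁻¹ *ᵥ x) i)) = gm A⁻¹ *ᵥ x := rfl
  rw [h2, gm_mulVec_inv] at h1
  rw [h1, act_guConj]
  rfl

omit [Fintype F] in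
/-- The stabilizer in `G` modulo the inner-diagonal part embeds in the field automorphisms. -/
theorem index_CC [Finite F] (S : Sit π) (K : Subgroup G) : ((CC π).subgroupOf K).index ≤ Nat.card (F ≃+* F) := by
  classical
  choose A ρ hA using S.ind
  have : Finite (F ≃+* F) := Finite.of_injective (fun r : F ≃+* F => (r : F → F)) DFunLike.coe_injective
  rw [Subgroup.index]
  refine Nat.card_le_card_of_injective (fun x : K ⧸ (CC π).subgroupOf K => ρ (((Quotient.out x : K) : G)⁻¹)) ?_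
  intro x y hxy
  simp only at hxy
  set a : K := Quotient.out x with ha
  set b : K := Quotient.out y with hb
  have hx : x = QuotientGroup.mk a := (QuotientGroup.out_eq' x).symm
  have hy : y = QuotientGroup.mk b := (QuotientGroup.out_eq' y).symm
  rw [hx, hy, QuotientGroup.eq, Subgroup.mem_subgroupOf, Subgroup.coe_mul, Subgroup.coe_inv, mem_CC]
  refine ⟨A ((a : G)⁻¹) * (A ((b : G)⁻¹))⁻¹, fun t => ?_⟩
  obtain ⟨s, rfl⟩ := (semiConj (A ((b : G)⁻¹)) (ρ ((b : G)⁻¹))).surjective t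
  have h1 := hA ((b : G)⁻¹) s
  have h2 := hA ((a : G)⁻¹) s
  rw [← h1]
  have h3 : (a : G)⁻¹ * b * ((b : G)⁻¹ * π s * ((b : G)⁻¹)⁻¹) * ((a : G)⁻¹ * b)⁻¹ = (a : G)⁻¹ * π s * ((a : G)⁻¹)⁻¹ := by
    group
  rw [h3, h2]
  congr 1
  rw [hxy]
  have h4 : ∀ (B : Cfsg.GU 3 F q) (r : F ≃+* F), semiConj B r s =
      guConj B (Cfsg.Agent.LieClassical.FieldTransfer.suCongr 3 q r s) := fun _ _ => rfl
  rw [h4, h4, ← guConj_mul, inv_mul_cancel_right]

/-- **Commutators of elements of the stabilizer inducing inner-diagonal automorphisms.** -/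
theorem comm_mem (hF : Fintype.card F = q ^ 2) (H : IsFrame q e f) (S : Sit π) {x y : G}
    (hx : x ∈ CC π ⊓ HH π hF H) (hy : y ∈ CC π ⊓ HH π hF H) : x * y * x⁻¹ * y⁻¹ ∈ UU π hF H := by
  obtain ⟨⟨A, hA⟩, hxH⟩ := hx
  obtain ⟨⟨B, hB⟩, hyH⟩ := hy
  have hrefl : ∀ (C : Cfsg.GU 3 F q), (gm C *ᵥ fun i => (RingEquiv.refl F) (e i)) = gm C *ᵥ e := fun _ => rfl
  obtain ⟨a, ha⟩ := (S.mem_HH_iff hF H (A := A) (ρ := RingEquiv.refl F) (fun s => by rw [semiConj_refl]; exact hA s)).1 hxH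
  obtain ⟨b, hb⟩ := (S.mem_HH_iff hF H (A := B) (ρ := RingEquiv.refl F) (fun s => by rw [semiConj_refl]; exact hB s)).1 hyH
  rw [hrefl] at ha hb
  have ha0 : a ≠ 0 := by
    rintro rfl
    rw [zero_smul] at ha
    have h1 := congrArg (gm A⁻¹ *ᵥ ·) ha
    simp only [gm_inv_mulVec, mulVec_zero] at h1
    exact e_ne H h1
  have hb0 : b ≠ 0 := by
    rintro rfl
    rw [zero_smul] at hb
    have h1 := congrArg (gm B⁻¹ *ᵥ ·) hb
    simp only [gm_inv_mulVec, mulVec_zero] at h1
    exact e_ne H h1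
  have ha' : gm A⁻¹ *ᵥ e = a⁻¹ • e := by
    have h1 := congrArg (gm A⁻¹ *ᵥ ·) ha
    simp only [gm_inv_mulVec, mulVec_smul] at h1
    rw [h1, smul_smul, inv_mul_cancel₀ ha0, one_smul, ← h1]
  have hb' : gm B⁻¹ *ᵥ e = b⁻¹ • e := by
    have h1 := congrArg (gm B⁻¹ *ᵥ ·) hb
    simp only [gm_inv_mulVec, mulVec_smul] at h1
    rw [h1, smul_smul, inv_mul_cancel₀ hb0, one_smul, ← h1]
  set D : Cfsg.GU 3 F q := A * B * A⁻¹ * B⁻¹ with hD
  have hDm : gm D = gm A * gm B * gm A⁻¹ * gm B⁻¹ := by rw [hD, gm_mul, gm_mul, gm_mul]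
  have hdet : (gm D).det = 1 := by
    have h1 : (gm A).det * (gm A⁻¹).det = 1 := by
      rw [← det_mul, ← gm_mul, mul_inv_cancel, gm_one, det_one]
    have h2 : (gm B).det * (gm B⁻¹).det = 1 := by
      rw [← det_mul, ← gm_mul, mul_inv_cancel, gm_one, det_one]
    rw [hDm, det_mul, det_mul, det_mul]
    linear_combination (gm B).det * (gm B⁻¹).det * h1 + h2
  set s0 : SU 3 F q := mkSU (gm D) hdet (fun u v => herm_gm D u v) with hs0
  have hact : ∀ v, act s0 v = gm D *ᵥ v := fun v => rfl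
  have he : act s0 e = e := by
    rw [hact, hDm, ← mulVec_mulVec, ← mulVec_mulVec, ← mulVec_mulVec]
    simp only [hb', mulVec_smul, ha', hb, ha, smul_smul]
    have : b⁻¹ * (a⁻¹ * (b * a)) = 1 := by field_simp
    first
      | rw [this, one_smul]
      | (have h9 : b⁻¹ * a⁻¹ * b * a = 1 := by field_simp
         rw [h9, one_smul])
  have hconj : ∀ s, guConj D s = s0 * s * s0⁻¹ := by
    intro s
    apply ext_act
    intro v
    rw [act_guConj, act_mul, act_mul, hact]
    congr 2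
    have h1 : act s0 (gm D⁻¹ *ᵥ v) = v := by rw [hact, gm_mulVec_inv]
    have h2 := congrArg (act s0⁻¹) h1
    rw [act_inv_act] at h2
    rw [h2]
  have hcomm : ∀ s, (x * y * x⁻¹ * y⁻¹) * π s * (x * y * x⁻¹ * y⁻¹)⁻¹ = π s0 * π s * (π s0)⁻¹ := by
    have hAi : ∀ s, x⁻¹ * π s * x⁻¹⁻¹ = π (guConj A⁻¹ s) := by
      intro s
      have h1 := hA (guConj A⁻¹ s)
      rw [← guConj_mul, mul_inv_cancel, guConj_one] at h1
      rw [← h1]; group
    have hBi : ∀ s, y⁻¹ * π s * y⁻¹⁻¹ = π (guConj B⁻¹ s) := by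
      intro s
      have h1 := hB (guConj B⁻¹ s)
      rw [← guConj_mul, mul_inv_cancel, guConj_one] at h1
      rw [← h1]; group
    intro s
    have h1 : (x * y * x⁻¹ * y⁻¹) * π s * (x * y * x⁻¹ * y⁻¹)⁻¹ =
        x * (y * (x⁻¹ * (y⁻¹ * π s * y⁻¹⁻¹) * x⁻¹⁻¹) * y⁻¹) * x⁻¹ := by group
    rw [h1, hBi, hAi, hB, hA, ← guConj_mul, ← guConj_mul, ← guConj_mul]
    rw [← hD, hconj, map_mul, map_mul, map_inv]
  have h1 : (π s0)⁻¹ * (x * y * x⁻¹ * y⁻¹) = 1 := by
    apply S.cent
    intro s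
    have h2 := hcomm s
    have h3 : (x * y * x⁻¹ * y⁻¹) * π s = π s0 * π s * (π s0)⁻¹ * (x * y * x⁻¹ * y⁻¹) := by
      rw [← h2]; group
    rw [mul_assoc, h3]; group
  have h2 : x * y * x⁻¹ * y⁻¹ = π s0 := (inv_mul_eq_one.1 h1).symm
  rw [h2]
  exact ⟨s0, (mem_siegG_iff hF H s0).2 he, rfl⟩

end Sit

end Cfsg.Agent.H145.U3Geo
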