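import Cfsg.Agent.H145.U3Op

/-!
# The idempotent kernels and the two constituents of the induced character of `SU₃(q)`

(helper145, for S4898.)
-/

set_option autoImplicit false

namespace Cfsg.Agent.H145.U3Ker

open Matrix Cfsg Cfsg.Agent.Characters.Core
  Cfsg.Agent.LieClassical.HermBasic Cfsg.Agent.LieClassical.HermSiegel Cfsg.Agent.LieClassical.HermGen
  Cfsg.Agent.LieClassical.SUBasic Cfsg.Agent.ClassicalGeometry.PSUAutBasic
  Cfsg.Agent.H961.LineChar Cfsg.Agent.H618.InvPSU3 Cfsg.Agent.H145.U3Sum Cfsg.Agent.H145.RankOne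
  Cfsg.Agent.H145.U3Op

variable {F : Type*} [Field F] [Fintype F] {q : ℕ}

/-- Scaling. -/
def sm (l : Fˣ) (x : Iso F q) : Iso F q :=
  ⟨(l : F) • x.1, smul_ne_zero l.ne_zero x.2.1, by rw [herm_smul_left, herm_smul_right, x.2.2]; ring⟩

omit [Fintype F] in
theorem sm_val (l : Fˣ) (x : Iso F q) : (sm l x).1 = (l : F) • x.1 := rfl

omit [Fintype F] in
theorem sm_sm (l m : Fˣ) (x : Iso F q) : sm l (sm m x) = sm (l * m) x := by
  apply Subtype.ext
  rw [sm_val, sm_val, sm_val, smul_smul, Units.val_mul]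

omit [Fintype F] in
theorem sm_one (x : Iso F q) : sm 1 x = x := by
  apply Subtype.ext
  rw [sm_val, Units.val_one, one_smul]

omit [Fintype F] in
theorem sm_inj {l m : Fˣ} {x : Iso F q} (h : sm l x = sm m x) : l = m :=
  unit_eq x.2.1 (congrArg Subtype.val h)

omit [Fintype F] in
theorem eq_sm_iff (l : Fˣ) (x y : Iso F q) : y = sm l x ↔ x = sm l⁻¹ y := by
  constructor
  · rintro rfl
    rw [sm_sm, inv_mul_cancel, sm_one]
  · intro h
    rw [h, sm_sm, mul_inv_cancel, sm_one]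

/-- The action of `SU₃(q)` on the nonzero isotropic vectors. -/
def perm (F : Type*) [Field F] (q : ℕ) : SU 3 F q →* Equiv.Perm (Iso F q) where
  toFun g :=
    { toFun := fun x => ⟨act g x.1, fun h => x.2.1 ((act_eq_zero g).1 h), by rw [herm_act, x.2.2]⟩
      invFun := fun x => ⟨act g⁻¹ x.1, fun h => x.2.1 ((act_eq_zero g⁻¹).1 h), by rw [herm_act, x.2.2]⟩
      left_inv := fun x => Subtype.ext (act_inv_act g x.1)
      right_inv := fun x => Subtype.ext (act_act_inv g x.1) }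
  map_one' := by
    ext x : 1
    exact Subtype.ext (act_one x.1)
  map_mul' g h := by
    ext x : 1
    exact Subtype.ext (act_mul g h x.1)

omit [Fintype F] in
theorem perm_val (g : SU 3 F q) (x : Iso F q) : (perm F q g x).1 = act g x.1 := rfl

omit [Fintype F] in
theorem perm_sm (g : SU 3 F q) (l : Fˣ) (x : Iso F q) : perm F q g (sm l x) = sm l (perm F q g x) := by
  apply Subtype.ext
  rw [perm_val, sm_val, sm_val, perm_val, act_smul]

theorem perm_trans (hF : Fintype.card F = q ^ 2) (x y : Iso F q) : ∃ g : SU 3 F q, perm F q g x = y := by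
  obtain ⟨g, hg⟩ := exists_map hF x.2.1 y.2.1 x.2.2 y.2.2
  exact ⟨g, Subtype.ext hg⟩

open scoped Classical in
/-- The number of nonzero isotropic vectors. -/
theorem card_Iso (hF : Fintype.card F = q ^ 2) :
    (Fintype.card (Iso F q) : ℂ) = ((q : ℂ) ^ 2 - 1) * ((q : ℂ) ^ 3 + 1) := by
  obtain ⟨e, f, H⟩ := exists_frame (F := F) (q := q) (n := 3) hF (by norm_num)
  have h1 := sum_ne hF (e_ne H) H.ee
  have h2 : ∑ y : Iso F q, (if hermForm 3 F q y.1 e = 0 then (1 : ℂ) else 0) = (q : ℂ) ^ 2 - 1 := by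
    rw [← Finset.sum_filter, ← card_units hF]
    have h3 : ∑ l : Fˣ, (1 : ℂ) = (Fintype.card Fˣ : ℂ) := by simp
    rw [← h3]
    symm
    refine Finset.sum_bij (fun l _ => sm l (⟨e, e_ne H, H.ee⟩ : Iso F q)) ?_ ?_ ?_ ?_
    · intro l _
      rw [Finset.mem_filter, sm_val]
      exact ⟨Finset.mem_univ _, by rw [herm_smul_left, H.ee, mul_zero]⟩
    · intro l _ m _ h
      exact sm_inj h
    · intro y hy
      rw [Finset.mem_filter] at hy
      obtain ⟨c, hc⟩ := smul_of_orth hF (e_ne H) H.ee y.2.2 hy.2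
      have hc0 : c ≠ 0 := by
        rintro rfl
        apply y.2.1
        rw [hc, zero_smul]
      exact ⟨Units.mk0 c hc0, Finset.mem_univ _, Subtype.ext hc.symm⟩
    · intro l _
      rfl
  have h3 : (Fintype.card (Iso F q) : ℂ) = ∑ y : Iso F q, (if hermForm 3 F q y.1 e = 0 then (0 : ℂ) else 1) +
      ∑ y : Iso F q, (if hermForm 3 F q y.1 e = 0 then (1 : ℂ) else 0) := by
    rw [← Finset.sum_add_distrib]
    have h4 : ∀ y : Iso F q, (if hermForm 3 F q y.1 e = 0 then (0 : ℂ) else 1) +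
        (if hermForm 3 F q y.1 e = 0 then (1 : ℂ) else 0) = 1 := by
      intro y
      split_ifs <;> norm_num
    simp only [h4]
    simp
  rw [h3, h1, h2]
  ring

section Kernel

variable (χ : MulChar F ℂ)

open scoped Classical in
/-- The kernel of the projection. -/
noncomputable def SS (x y : Iso F q) : ℂ := ∑ l : Fˣ, if y = sm l x then χ (l : F) else 0

/-- The kernel of the intertwining operator. -/
noncomputable def AA (x y : Iso F q) : ℂ := χ (hermForm 3 F q y.1 x.1)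

variable {χ}

theorem SS_sm (l : Fˣ) (x : Iso F q) : SS χ x (sm l x) = χ (l : F) := by
  classical
  rw [SS, Finset.sum_eq_single l]
  · rw [if_pos rfl]
  · intro m _ hm
    rw [if_neg]
    intro h
    exact hm (sm_inj h).symm
  · intro h
    exact absurd (Finset.mem_univ _) h

theorem SS_eq_zero {x y : Iso F q} (h : ∀ l : Fˣ, y ≠ sm l x) : SS χ x y = 0 := by
  classical
  rw [SS]
  exact Finset.sum_eq_zero fun l _ => if_neg (h l)

theorem SS_self (x : Iso F q) : SS χ x x = 1 := by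
  have h := SS_sm (χ := χ) 1 x
  rw [sm_one] at h
  rw [h, Units.val_one, map_one]

omit [Fintype F] in
theorem AA_self (x : Iso F q) : AA χ x x = 0 := by
  rw [AA, x.2.2, MulChar.map_zero]

omit [Fintype F] in
theorem AA_sm_right (l : Fˣ) (x y : Iso F q) : AA χ x (sm l y) = χ (l : F) * AA χ x y := by
  rw [AA, AA, sm_val, herm_smul_left, map_mul]

omit [Fintype F] in
theorem AA_sm_left (l : Fˣ) (x y : Iso F q) : AA χ (sm l x) y = χ ((l : F) ^ q) * AA χ x y := by
  rw [AA, AA, sm_val, herm_smul_right, map_mul]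

omit [Fintype F] in
theorem chi_mul_inv (l : Fˣ) : χ (l : F) * χ ((l⁻¹ : Fˣ) : F) = 1 := by
  rw [← map_mul, ← Units.val_mul, mul_inv_cancel, Units.val_one, map_one]

theorem SS_sm_left (l : Fˣ) (x y : Iso F q) : SS χ (sm l x) y = χ ((l⁻¹ : Fˣ) : F) * SS χ x y := by
  by_cases h : ∃ m : Fˣ, y = sm m x
  · obtain ⟨m, rfl⟩ := h
    have h1 : sm m x = sm (m * l⁻¹) (sm l x) := by
      rw [sm_sm, mul_assoc, inv_mul_cancel, mul_one]
    rw [SS_sm, h1, SS_sm, Units.val_mul, map_mul, mul_comm]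
  · push Not at h
    rw [SS_eq_zero h, mul_zero]
    apply SS_eq_zero
    intro m hm
    rw [sm_sm] at hm
    exact h _ hm

theorem SS_sm_right (l : Fˣ) (x y : Iso F q) : SS χ x (sm l y) = χ (l : F) * SS χ x y := by
  by_cases h : ∃ m : Fˣ, y = sm m x
  · obtain ⟨m, rfl⟩ := h
    rw [sm_sm, SS_sm, SS_sm, Units.val_mul, map_mul]
  · push Not at h
    rw [SS_eq_zero h, mul_zero]
    apply SS_eq_zero
    intro m hm
    apply h (l⁻¹ * m)
    rw [← sm_sm, ← hm, sm_sm, inv_mul_cancel, sm_one]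

open scoped Classical in
/-- Summing against `SS` on the left. -/
theorem sum_SS_mul [Fintype (Iso F q)] (x : Iso F q) (φ : Iso F q → ℂ) :
    ∑ y, SS χ x y * φ y = ∑ l : Fˣ, χ (l : F) * φ (sm l x) := by
  classical
  simp only [SS, Finset.sum_mul, ite_mul, zero_mul]
  rw [Finset.sum_comm]
  refine Finset.sum_congr rfl fun l _ => ?_
  rw [Finset.sum_ite_eq']
  simp

open scoped Classical in
/-- Summing against `SS` on the right. -/
theorem sum_mul_SS [Fintype (Iso F q)] (z : Iso F q) (φ : Iso F q → ℂ) :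
    ∑ y, φ y * SS χ y z = ∑ l : Fˣ, χ (l : F) * φ (sm l⁻¹ z) := by
  classical
  simp only [SS, Finset.mul_sum, mul_ite, mul_zero]
  rw [Finset.sum_comm]
  refine Finset.sum_congr rfl fun l _ => ?_
  have h1 : ∀ y : Iso F q, (z = sm l y) = (y = sm l⁻¹ z) := fun y => propext (eq_sm_iff l y z)
  simp only [h1]
  rw [Finset.sum_ite_eq']
  simp [mul_comm]

open scoped Classical in
theorem card_units' (hF : Fintype.card F = q ^ 2) : ∑ _l : Fˣ, (1 : ℂ) = (q : ℂ) ^ 2 - 1 := by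
  classical
  rw [← card_units hF]
  simp

theorem sum_SS_SS [Fintype (Iso F q)] (hF : Fintype.card F = q ^ 2) (x z : Iso F q) :
    ∑ y, SS χ x y * SS χ y z = ((q : ℂ) ^ 2 - 1) * SS χ x z := by
  rw [sum_SS_mul, ← card_units' hF, Finset.sum_mul]
  refine Finset.sum_congr rfl fun l _ => ?_
  rw [SS_sm_left, ← mul_assoc, chi_mul_inv]

theorem sum_SS_AA [Fintype (Iso F q)] (hF : Fintype.card F = q ^ 2) (hχ : χ ^ (q + 1) = 1) (x z : Iso F q) :
    ∑ y, SS χ x y * AA χ y z = ((q : ℂ) ^ 2 - 1) * AA χ x z := by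
  rw [sum_SS_mul, ← card_units' hF, Finset.sum_mul]
  refine Finset.sum_congr rfl fun l _ => ?_
  rw [AA_sm_left, ← mul_assoc, ← map_mul, chi_norm hχ l.ne_zero]

theorem sum_AA_SS [Fintype (Iso F q)] (hF : Fintype.card F = q ^ 2) (x z : Iso F q) :
    ∑ y, AA χ x y * SS χ y z = ((q : ℂ) ^ 2 - 1) * AA χ x z := by
  rw [sum_mul_SS, ← card_units' hF, Finset.sum_mul]
  refine Finset.sum_congr rfl fun l _ => ?_
  rw [AA_sm_right, ← mul_assoc, chi_mul_inv]

theorem sum_AA_AA (hF : Fintype.card F = q ^ 2) (hχ : χ ^ (q + 1) = 1) (hχ1 : χ ≠ 1) [Fintype (Iso F q)]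
    (x z : Iso F q) : ∑ y, AA χ x y * AA χ y z =
      ((q : ℂ) ^ 2 - 1) * ((q : ℂ) ^ 3 * SS χ x z - eps hF χ * (q * (q - 1)) * AA χ x z) := by
  classical
  have hinst : ∀ (a b : Fintype (Iso F q)) (φ : Iso F q → ℂ), (@Finset.sum _ _ _ (@Finset.univ _ a) φ) =
      (@Finset.sum _ _ _ (@Finset.univ _ b) φ) := by
    intro a b φ
    congr 1
    ext y
    simp
  by_cases h : ∃ m : Fˣ, z = sm m x
  · obtain ⟨m, rfl⟩ := h
    rw [AA_sm_right, AA_self, mul_zero, mul_zero, sub_zero, SS_sm]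
    have h1 : ∀ y : Iso F q, AA χ x y * AA χ y (sm m x) =
        χ (m : F) * (if hermForm 3 F q y.1 x.1 = 0 then (0 : ℂ) else 1) := by
      intro y
      rw [AA_sm_right, AA, AA]
      by_cases h2 : hermForm 3 F q y.1 x.1 = 0
      · rw [if_pos h2, h2, MulChar.map_zero]; ring
      · rw [if_neg h2, mul_one]
        have h3 : χ (hermForm 3 F q y.1 x.1) * χ (hermForm 3 F q x.1 y.1) = 1 := by
          rw [← map_mul, herm_swap hF y.1 x.1, chi_norm hχ h2]
        linear_combination χ (m : F) * h3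
    simp only [h1]
    rw [← Finset.mul_sum]
    have h4 := sum_ne hF x.2.1 x.2.2
    rw [hinst _ _ _] at h4
    rw [h4]
    ring
  · push Not at h
    have h0 : hermForm 3 F q z.1 x.1 ≠ 0 := by
      intro h0
      obtain ⟨c, hc⟩ := smul_of_orth hF x.2.1 x.2.2 z.2.2 h0
      have hc0 : c ≠ 0 := by
        rintro rfl
        apply z.2.1
        rw [hc, zero_smul]
      exact h (Units.mk0 c hc0) (Subtype.ext hc)
    rw [SS_eq_zero h, mul_zero, zero_sub]
    set γ := Units.mk0 _ h0 with hγ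
    set z' := sm γ⁻¹ z with hz'
    have hz : z = sm γ z' := by rw [hz', sm_sm, mul_inv_cancel, sm_one]
    have hzx' : hermForm 3 F q z'.1 x.1 = 1 := by
      rw [hz', sm_val, herm_smul_left, Units.val_inv_eq_inv_val, hγ, Units.val_mk0, inv_mul_cancel₀ h0]
    have hxz' : hermForm 3 F q x.1 z'.1 = 1 := by rw [herm_swap hF z'.1 x.1, hzx', one_pow]
    obtain ⟨w, hp⟩ := exists_hp' hF x.2.2 z'.2.2 hxz'
    have h1 := sum_AA hF hχ hχ1 hp
    rw [hinst _ _ _] at h1
    have h2 : ∀ y : Iso F q, AA χ x y * AA χ y z =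
        χ (γ : F) * (χ (hermForm 3 F q y.1 x.1) * χ (hermForm 3 F q z'.1 y.1)) := by
      intro y
      rw [hz, AA_sm_right, AA, AA]
      ring
    have h3 : AA χ x z = χ (γ : F) := by
      rw [hz, AA_sm_right, AA, hzx', map_one, mul_one]
    simp only [h2]
    rw [← Finset.mul_sum, h1, h3]
    ring

variable (χ) in
/-- The eigenprojection. -/
noncomputable def EE (hF : Fintype.card F = q ^ 2) (x y : Iso F q) : ℂ :=
  (((q : ℂ) ^ 2 - 1) * (q * (q + 1)))⁻¹ * (q * SS χ x y - eps hF χ * AA χ x y)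

variable (χ) in
/-- The complementary eigenprojection. -/
noncomputable def EE' (hF : Fintype.card F = q ^ 2) (x y : Iso F q) : ℂ :=
  ((q : ℂ) ^ 2 - 1)⁻¹ * SS χ x y - EE χ hF x y

omit [Fintype F] in
theorem cst_ne [Fintype F] (hF : Fintype.card F = q ^ 2) : ((q : ℂ) ^ 2 - 1) ≠ 0 := by
  have h := two_le hF
  have h1 : ((q ^ 2 - 1 : ℕ) : ℂ) = (q : ℂ) ^ 2 - 1 := by
    rw [Nat.cast_sub (Nat.one_le_pow _ _ (by omega))]
    push_cast; ring
  rw [← h1]
  have : 2 ^ 2 ≤ q ^ 2 := Nat.pow_le_pow_left h 2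
  exact_mod_cast (by omega)

theorem cst_ne' (hF : Fintype.card F = q ^ 2) : ((q : ℂ) * (q + 1)) ≠ 0 := by
  have h := two_le hF
  have h1 : ((q * (q + 1) : ℕ) : ℂ) = (q : ℂ) * (q + 1) := by push_cast; ring
  rw [← h1]
  have : 0 < q * (q + 1) := by positivity
  exact_mod_cast this.ne'

theorem sum_SS_EE [Fintype (Iso F q)] (hF : Fintype.card F = q ^ 2) (hχ : χ ^ (q + 1) = 1) (x z : Iso F q) :
    ∑ y, SS χ x y * EE χ hF y z = ((q : ℂ) ^ 2 - 1) * EE χ hF x z := by
  have h1 : ∀ y, SS χ x y * EE χ hF y z = (((q : ℂ) ^ 2 - 1) * (q * (q + 1)))⁻¹ *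
      (q * (SS χ x y * SS χ y z) - eps hF χ * (SS χ x y * AA χ y z)) := by
    intro y; rw [EE]; ring
  simp only [h1]
  rw [← Finset.mul_sum, Finset.sum_sub_distrib, ← Finset.mul_sum, ← Finset.mul_sum, sum_SS_SS hF, sum_SS_AA hF hχ, EE]
  ring

theorem sum_EE_SS [Fintype (Iso F q)] (hF : Fintype.card F = q ^ 2) (x z : Iso F q) :
    ∑ y, EE χ hF x y * SS χ y z = ((q : ℂ) ^ 2 - 1) * EE χ hF x z := by
  have h1 : ∀ y, EE χ hF x y * SS χ y z = (((q : ℂ) ^ 2 - 1) * (q * (q + 1)))⁻¹ *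
      (q * (SS χ x y * SS χ y z) - eps hF χ * (AA χ x y * SS χ y z)) := by
    intro y; rw [EE]; ring
  simp only [h1]
  rw [← Finset.mul_sum, Finset.sum_sub_distrib, ← Finset.mul_sum, ← Finset.mul_sum, sum_SS_SS hF, sum_AA_SS hF, EE]
  ring

/-- **The kernel is idempotent.** -/
theorem sum_EE_EE [Fintype (Iso F q)] (hF : Fintype.card F = q ^ 2) (hχ : χ ^ (q + 1) = 1) (hχ1 : χ ≠ 1)
    (x z : Iso F q) : ∑ y, EE χ hF x y * EE χ hF y z = EE χ hF x z := by
  set k : ℂ := (((q : ℂ) ^ 2 - 1) * (q * (q + 1)))⁻¹ with hk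
  have h1 : ∀ y, EE χ hF x y * EE χ hF y z = k * k *
      ((q : ℂ) ^ 2 * (SS χ x y * SS χ y z) - q * eps hF χ * (SS χ x y * AA χ y z)
        - q * eps hF χ * (AA χ x y * SS χ y z) + (AA χ x y * AA χ y z)) := by
    intro y
    rw [EE, EE]
    have h2 := eps_sq hF hχ
    linear_combination k * k * (AA χ x y * AA χ y z) * h2
  simp only [h1]
  rw [← Finset.mul_sum, Finset.sum_add_distrib, Finset.sum_sub_distrib, Finset.sum_sub_distrib, ← Finset.mul_sum,
    ← Finset.mul_sum, ← Finset.mul_sum, sum_SS_SS hF, sum_SS_AA hF hχ, sum_AA_SS hF, sum_AA_AA hF hχ hχ1]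
  have h3 : (EE χ hF x z) = k * (q * SS χ x z - eps hF χ * AA χ x z) := rfl
  rw [h3]
  have h4 : k * (((q : ℂ) ^ 2 - 1) * (q * (q + 1))) = 1 :=
    inv_mul_cancel₀ (mul_ne_zero (cst_ne hF) (cst_ne' hF))
  linear_combination k * (q * SS χ x z - eps hF χ * AA χ x z) * h4

theorem sum_EE'_EE' [Fintype (Iso F q)] (hF : Fintype.card F = q ^ 2) (hχ : χ ^ (q + 1) = 1) (hχ1 : χ ≠ 1)
    (x z : Iso F q) : ∑ y, EE' χ hF x y * EE' χ hF y z = EE' χ hF x z := by
  set N : ℂ := ((q : ℂ) ^ 2 - 1) with hN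
  have hN0 : N ≠ 0 := cst_ne hF
  have h1 : ∀ y, EE' χ hF x y * EE' χ hF y z = N⁻¹ * N⁻¹ * (SS χ x y * SS χ y z) - N⁻¹ * (SS χ x y * EE χ hF y z)
      - N⁻¹ * (EE χ hF x y * SS χ y z) + (EE χ hF x y * EE χ hF y z) := by
    intro y
    rw [EE', EE']
    ring
  simp only [h1]
  rw [Finset.sum_add_distrib, Finset.sum_sub_distrib, Finset.sum_sub_distrib, ← Finset.mul_sum,
    ← Finset.mul_sum, ← Finset.mul_sum, sum_SS_SS hF, sum_SS_EE hF hχ, sum_EE_SS hF, sum_EE_EE hF hχ hχ1, ← hN, EE', ← hN]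
  field_simp
  ring

theorem SS_perm (g : SU 3 F q) (x y : Iso F q) : SS χ (perm F q g x) (perm F q g y) = SS χ x y := by
  classical
  rw [SS, SS]
  refine Finset.sum_congr rfl fun l _ => ?_
  congr 1
  rw [← perm_sm]
  exact propext (Equiv.injective _).eq_iff

omit [Fintype F] in
theorem AA_perm (g : SU 3 F q) (x y : Iso F q) : AA χ (perm F q g x) (perm F q g y) = AA χ x y := by
  rw [AA, AA, perm_val, perm_val, herm_act]

theorem EE_perm (hF : Fintype.card F = q ^ 2) (g : SU 3 F q) (x y : Iso F q) :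
    EE χ hF (perm F q g x) (perm F q g y) = EE χ hF x y := by
  rw [EE, EE, SS_perm, AA_perm]

theorem EE'_perm (hF : Fintype.card F = q ^ 2) (g : SU 3 F q) (x y : Iso F q) :
    EE' χ hF (perm F q g x) (perm F q g y) = EE' χ hF x y := by
  rw [EE', EE', SS_perm, EE_perm]

open scoped Classical in
variable (χ) in
/-- The character of degree `q² - q + 1`. -/
noncomputable def f1 (hF : Fintype.card F = q ^ 2) (g : SU 3 F q) : ℂ := ∑ x, EE χ hF x (perm F q g x)

open scoped Classical in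
variable (χ) in
/-- The character of degree `q (q² - q + 1)`. -/
noncomputable def f2 (hF : Fintype.card F = q ^ 2) (g : SU 3 F q) : ℂ := ∑ x, EE' χ hF x (perm F q g x)

theorem isCharacter_f1 (hF : Fintype.card F = q ^ 2) (hχ : χ ^ (q + 1) = 1) (hχ1 : χ ≠ 1) :
    IsCharacter (SU 3 F q) (f1 χ hF) := by
  classical
  exact Cfsg.Agent.H651.isCharacter_sum_perm (perm F q) (EE χ hF) (sum_EE_EE hF hχ hχ1) (EE_perm hF)

theorem isCharacter_f2 (hF : Fintype.card F = q ^ 2) (hχ : χ ^ (q + 1) = 1) (hχ1 : χ ≠ 1) :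
    IsCharacter (SU 3 F q) (f2 χ hF) := by
  classical
  exact Cfsg.Agent.H651.isCharacter_sum_perm (perm F q) (EE' χ hF) (sum_EE'_EE' hF hχ hχ1) (EE'_perm hF)

theorem f1_one (hF : Fintype.card F = q ^ 2) : f1 χ hF 1 = (q : ℂ) ^ 2 - q + 1 := by
  classical
  have h1 : ∀ x : Iso F q, EE χ hF x (perm F q 1 x) = (((q : ℂ) ^ 2 - 1) * (q * (q + 1)))⁻¹ * q := by
    intro x
    rw [map_one, Equiv.Perm.one_apply, EE, SS_self, AA_self]
    ring
  rw [f1]
  simp only [h1]
  rw [Finset.sum_const, Finset.card_univ, nsmul_eq_mul, card_Iso hF]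
  have h2 := cst_ne hF
  have h3 := cst_ne' hF
  have h4 : (q : ℂ) ≠ 0 := left_ne_zero_of_mul h3
  have h5 : ((q : ℂ) + 1) ≠ 0 := right_ne_zero_of_mul h3
  field_simp
  ring

theorem f2_one (hF : Fintype.card F = q ^ 2) : f2 χ hF 1 = (q : ℂ) * ((q : ℂ) ^ 2 - q + 1) := by
  classical
  have h1 : ∀ x : Iso F q, EE' χ hF x (perm F q 1 x) =
      ((q : ℂ) ^ 2 - 1)⁻¹ - (((q : ℂ) ^ 2 - 1) * (q * (q + 1)))⁻¹ * q := by
    intro x
    rw [map_one, Equiv.Perm.one_apply, EE', EE, SS_self, AA_self]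
    ring
  rw [f2]
  simp only [h1]
  rw [Finset.sum_const, Finset.card_univ, nsmul_eq_mul, card_Iso hF]
  have h2 := cst_ne hF
  have h3 := cst_ne' hF
  have h4 : (q : ℂ) ≠ 0 := left_ne_zero_of_mul h3
  have h5 : ((q : ℂ) + 1) ≠ 0 := right_ne_zero_of_mul h3
  field_simp
  ring

end Kernel

end Cfsg.Agent.H145.U3Ker
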