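import Cfsg.Agent.H145.U3Sum
import Cfsg.Agent.H145.RankOne
import Cfsg.Agent.H618.InvPSU3
import Cfsg.Agent.H651.StarTrace

/-!
# The operator `A(x,y) = χ(h(y,x))` on the isotropic vectors of the unitary space of dimension three

(helper145, for S4898.) `χ` is a nontrivial character of `F^*`, `|F| = q^2`, with `χ^(q+1) = 1`. The eigenprojections of
`A` afford characters of `SU₃(q)` of degrees `q^2 - q + 1` and `q (q^2 - q + 1)`.
-/

set_option autoImplicit false

namespace Cfsg.Agent.H145.U3Op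

open Matrix Cfsg Cfsg.Agent.Characters.Core
  Cfsg.Agent.LieClassical.HermBasic Cfsg.Agent.LieClassical.HermSiegel Cfsg.Agent.LieClassical.HermGen
  Cfsg.Agent.LieClassical.SUBasic Cfsg.Agent.ClassicalGeometry.PSUAutBasic
  Cfsg.Agent.H961.LineChar Cfsg.Agent.H618.InvPSU3 Cfsg.Agent.H145.U3Sum Cfsg.Agent.H145.RankOne

variable {F : Type*} [Field F] [Fintype F] {q : ℕ}

/-- The nonzero isotropic vectors. -/
abbrev Iso (F : Type*) [Field F] (q : ℕ) := {v : Fin 3 → F // v ≠ 0 ∧ hermForm 3 F q v v = 0}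

/-- A hyperbolic pair with a unit vector orthogonal to it. -/
structure HP (q : ℕ) (x z w : Fin 3 → F) : Prop where
  xx : hermForm 3 F q x x = 0
  zz : hermForm 3 F q z z = 0
  xz : hermForm 3 F q x z = 1
  wx : hermForm 3 F q w x = 0
  wz : hermForm 3 F q w z = 0
  ww : hermForm 3 F q w w = 1
  span : ∀ y, y = hermForm 3 F q y z • x + hermForm 3 F q y w • w + hermForm 3 F q y x • z

theorem HP.map {x z w : Fin 3 → F} (h : HP q x z w) (g : SU 3 F q) : HP q (act g x) (act g z) (act g w) where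
  xx := by rw [herm_act, h.xx]
  zz := by rw [herm_act, h.zz]
  xz := by rw [herm_act, h.xz]
  wx := by rw [herm_act, h.wx]
  wz := by rw [herm_act, h.wz]
  ww := by rw [herm_act, h.ww]
  span := by
    intro y
    have h1 := congrArg (act g) (h.span (act g⁻¹ y))
    rw [act_act_inv, act_add, act_add, act_smul, act_smul, act_smul] at h1
    have h2 : ∀ v, hermForm 3 F q (act g⁻¹ y) v = hermForm 3 F q y (act g v) := by
      intro v
      rw [herm_act_left, inv_inv]
    rw [h2, h2, h2] at h1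
    exact h1

theorem HP.zx (hF : Fintype.card F = q ^ 2) {x z w : Fin 3 → F} (h : HP q x z w) : hermForm 3 F q z x = 1 := by
  rw [herm_swap hF x z, h.xz, one_pow]

theorem HP.xw (hF : Fintype.card F = q ^ 2) {x z w : Fin 3 → F} (h : HP q x z w) : hermForm 3 F q x w = 0 :=
  herm_eq_zero_swap hF h.wx

theorem HP.zw (hF : Fintype.card F = q ^ 2) {x z w : Fin 3 → F} (h : HP q x z w) : hermForm 3 F q z w = 0 :=
  herm_eq_zero_swap hF h.wz

theorem HP.x_ne {x z w : Fin 3 → F} (h : HP q x z w) : x ≠ 0 := by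
  rintro rfl
  have := h.xz
  rw [herm_zero_left] at this
  exact zero_ne_one this

theorem hp_of_frame (hF : Fintype.card F = q ^ 2) {e f : Fin 3 → F} (H : IsFrame q e f) :
    HP q e f (Pi.single 0 1) := by
  have hw : (Pi.single 0 1 : Fin 3 → F) ∈ coordSub F 3 (3 - 2) := by
    intro i hi
    fin_cases i
    · simp at hi
    · simp
    · simp
  have h1 := (H.mem _).1 hw
  have hfe : hermForm 3 F q f e = 1 := by rw [herm_swap hF e f, H.ef, one_pow]
  refine ⟨H.ee, H.ff, H.ef, h1.1, h1.2, ?_, ?_⟩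
  · rw [herm_single_left]
    simp
  · intro y
    have h2 : (y - hermForm 3 F q y f • e - hermForm 3 F q y e • f) ∈ coordSub F 3 (3 - 2) := by
      rw [H.mem]
      constructor
      · rw [herm_sub_left, herm_sub_left, herm_smul_left, herm_smul_left, H.ee, hfe]; ring
      · rw [herm_sub_left, herm_sub_left, herm_smul_left, herm_smul_left, H.ff, H.ef]; ring
    have h3 : (y - hermForm 3 F q y f • e - hermForm 3 F q y e • f) =
        hermForm 3 F q y (Pi.single 0 1) • (Pi.single 0 1 : Fin 3 → F) := by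
      have h4 : hermForm 3 F q (y - hermForm 3 F q y f • e - hermForm 3 F q y e • f) (Pi.single 0 1) =
          hermForm 3 F q y (Pi.single 0 1) := by
        rw [herm_sub_left, herm_sub_left, herm_smul_left, herm_smul_left, herm_eq_zero_swap hF h1.1,
          herm_eq_zero_swap hF h1.2]; ring
      rw [← h4, herm_single_right hF]
      funext i
      fin_cases i
      · simp
      · have := h2 1 (by decide)
        simpa using this
      · have := h2 2 (by decide)
        simpa using this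
    rw [← h3]
    abel

theorem exists_hp (hF : Fintype.card F = q ^ 2) {x : Fin 3 → F} (hx0 : x ≠ 0) (hx : hermForm 3 F q x x = 0) :
    ∃ z w, HP q x z w := by
  obtain ⟨e, f, H⟩ := exists_frame (F := F) (q := q) (n := 3) hF (by norm_num)
  obtain ⟨g, hg⟩ := exists_map hF (e_ne H) hx0 H.ee hx
  have h := (hp_of_frame hF H).map g
  rw [hg] at h
  exact ⟨_, _, h⟩

theorem exists_hp' (hF : Fintype.card F = q ^ 2) {x z : Fin 3 → F} (hx : hermForm 3 F q x x = 0)
    (hz : hermForm 3 F q z z = 0) (hxz : hermForm 3 F q x z = 1) : ∃ w, HP q x z w := by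
  have hx0 : x ≠ 0 := by
    rintro rfl
    rw [herm_zero_left] at hxz
    exact zero_ne_one hxz
  obtain ⟨z', w', h⟩ := exists_hp hF hx0 hx
  have hzx : hermForm 3 F q z x = 1 := by rw [herm_swap hF x z, hxz, one_pow]
  obtain ⟨c, μ, hs, hu⟩ := exists_siegel_map hF (u := x) (v := z') (v' := z) hx (by rw [h.zz, hz])
    (by rw [h.zx hF, hzx]) (by rw [h.zx hF]; exact one_ne_zero)
  have h2 := h.map (siegel hF x (c • (z - z')) μ hs)
  rw [hu, act_siegel_self] at h2
  exact ⟨_, h2⟩

/-- Isotropic vectors orthogonal to `x` are multiples of `x`. -/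
theorem smul_of_orth (hF : Fintype.card F = q ^ 2) {x : Fin 3 → F} (hx0 : x ≠ 0) (hx : hermForm 3 F q x x = 0)
    {y : Fin 3 → F} (hy : hermForm 3 F q y y = 0) (hyx : hermForm 3 F q y x = 0) : ∃ c : F, y = c • x := by
  obtain ⟨z, w, h⟩ := exists_hp hF hx0 hx
  have h1 := h.span y
  rw [hyx, zero_smul, add_zero] at h1
  set a := hermForm 3 F q y z with ha
  set t := hermForm 3 F q y w with ht
  have h2 : t * t ^ q = 0 := by
    rw [h1] at hy
    rw [herm_add_left, herm_add_right hF, herm_add_right hF, herm_smul_left, herm_smul_left, herm_smul_left,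
      herm_smul_left, herm_smul_right, herm_smul_right, herm_smul_right, herm_smul_right, h.xx, h.xw hF, h.wx, h.ww] at hy
    linear_combination hy
  have h3 := (norm_eq_zero hF).1 h2
  exact ⟨a, by rw [h1, h3]; simp⟩

/-! ### Sums over the isotropic vectors -/

open scoped Classical in
theorem sum_param (hF : Fintype.card F = q ^ 2) {x z w : Fin 3 → F} (h : HP q x z w) (φ : (Fin 3 → F) → ℂ)
    (hφ : ∀ y, hermForm 3 F q y x = 0 → φ y = 0) :
    ∑ y : Iso F q, φ y.1 = ∑ l : Fˣ, ∑ p ∈ PP F q, φ ((l : F) • (p.1 • x + p.2 • w + z)) := by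
  have h1 : ∑ y : Iso F q, φ y.1 = ∑ y ∈ Finset.univ.filter (fun y : Fin 3 → F => (y ≠ 0 ∧ hermForm 3 F q y y = 0)), φ y := by
    rw [← Finset.sum_subtype_eq_sum_filter]
    refine Finset.sum_bij' (fun y _ => y) (fun y _ => y) ?_ ?_ ?_ ?_ ?_ <;> simp
  have h2 : ∑ y ∈ Finset.univ.filter (fun y : Fin 3 → F => (y ≠ 0 ∧ hermForm 3 F q y y = 0)), φ y =
      ∑ y ∈ Finset.univ.filter (fun y : Fin 3 → F => (hermForm 3 F q y x ≠ 0 ∧ hermForm 3 F q y y = 0)), φ y := by
    symm
    refine Finset.sum_subset ?_ ?_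
    · intro y hy
      rw [Finset.mem_filter] at hy ⊢
      refine ⟨hy.1, ?_, hy.2.2⟩
      rintro rfl
      exact hy.2.1 (herm_zero_left _)
    · intro y hy hy'
      rw [Finset.mem_filter] at hy hy'
      apply hφ
      by_contra h3
      exact hy' ⟨hy.1, h3, hy.2.2⟩
  rw [h1, h2, ← Finset.sum_product']
  symm
  have hy0x : ∀ p : F × F, hermForm 3 F q (p.1 • x + p.2 • w + z) x = 1 := by
    intro p
    rw [herm_add_left, herm_add_left, herm_smul_left, herm_smul_left, h.xx, h.wx, h.zx hF]; ring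
  have hy0z : ∀ p : F × F, hermForm 3 F q (p.1 • x + p.2 • w + z) z = p.1 := by
    intro p
    rw [herm_add_left, herm_add_left, herm_smul_left, herm_smul_left, h.xz, h.wz, h.zz]; ring
  have hy0w : ∀ p : F × F, hermForm 3 F q (p.1 • x + p.2 • w + z) w = p.2 := by
    intro p
    rw [herm_add_left, herm_add_left, herm_smul_left, herm_smul_left, h.xw hF, h.ww, h.zw hF]; ring
  refine Finset.sum_bij (fun (r : Fˣ × (F × F)) _ => (r.1 : F) • (r.2.1 • x + r.2.2 • w + z)) ?_ ?_ ?_ ?_
  · rintro ⟨l, p⟩ hp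
    rw [Finset.mem_product, mem_PP] at hp
    rw [Finset.mem_filter]
    refine ⟨Finset.mem_univ _, ?_, ?_⟩
    · rw [herm_smul_left, hy0x, mul_one]
      exact l.ne_zero
    · rw [herm_smul_left, herm_smul_right]
      have h3 : hermForm 3 F q (p.1 • x + p.2 • w + z) (p.1 • x + p.2 • w + z) = p.1 + p.1 ^ q + p.2 * p.2 ^ q := by
        rw [herm_add_right hF, herm_add_right hF, herm_smul_right, herm_smul_right, hy0x, hy0w, hy0z]; ring
      rw [h3, hp.2]; ring
  · rintro ⟨l, p⟩ hp ⟨l', p'⟩ hp' heq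
    simp only at heq
    have h3 := congrArg (fun y => hermForm 3 F q y x) heq
    simp only [herm_smul_left, hy0x, mul_one] at h3
    have hl : l = l' := Units.ext h3
    subst hl
    have h4 := congrArg (fun y => hermForm 3 F q y z) heq
    simp only [herm_smul_left, hy0z] at h4
    have h5 := congrArg (fun y => hermForm 3 F q y w) heq
    simp only [herm_smul_left, hy0w] at h5
    rw [Prod.mk.injEq]
    exact ⟨rfl, Prod.ext (mul_left_cancel₀ l.ne_zero h4) (mul_left_cancel₀ l.ne_zero h5)⟩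
  · intro y hy
    rw [Finset.mem_filter] at hy
    obtain ⟨-, hy1, hy2⟩ := hy
    set l := Units.mk0 _ hy1 with hl
    have h3 := h.span y
    refine ⟨(l, ((l : F)⁻¹ * hermForm 3 F q y z, (l : F)⁻¹ * hermForm 3 F q y w)), ?_, ?_⟩
    · rw [Finset.mem_product, mem_PP]
      refine ⟨Finset.mem_univ _, ?_⟩
      have h4 : hermForm 3 F q ((l : F)⁻¹ • y) ((l : F)⁻¹ • y) = 0 := by
        rw [herm_smul_left, herm_smul_right, hy2]; ring
      have h5 : (l : F)⁻¹ • y = ((l : F)⁻¹ * hermForm 3 F q y z) • x + ((l : F)⁻¹ * hermForm 3 F q y w) • w + z := by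
        conv_lhs => rw [h3]
        rw [smul_add, smul_add, smul_smul, smul_smul, smul_smul]
        have : (l : F)⁻¹ * hermForm 3 F q y x = 1 := by
          rw [hl, Units.val_mk0, inv_mul_cancel₀ hy1]
        rw [this, one_smul]
      rw [h5, herm_add_right hF, herm_add_right hF, herm_smul_right, herm_smul_right] at h4
      have h6 := hy0x ((l : F)⁻¹ * hermForm 3 F q y z, (l : F)⁻¹ * hermForm 3 F q y w)
      have h7 := hy0z ((l : F)⁻¹ * hermForm 3 F q y z, (l : F)⁻¹ * hermForm 3 F q y w)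
      have h8 := hy0w ((l : F)⁻¹ * hermForm 3 F q y z, (l : F)⁻¹ * hermForm 3 F q y w)
      simp only at h6 h7 h8
      rw [h6, h7, h8] at h4
      linear_combination h4
    · simp only
      rw [smul_add, smul_add, smul_smul, smul_smul, ← mul_assoc, ← mul_assoc, mul_inv_cancel₀ l.ne_zero, one_mul, one_mul]
      conv_rhs => rw [h3]
      rw [hl, Units.val_mk0]
  · rintro ⟨l, p⟩ _
    rfl

open scoped Classical in
theorem card_units (hF : Fintype.card F = q ^ 2) : (Fintype.card Fˣ : ℂ) = (q : ℂ) ^ 2 - 1 := by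
  rw [Fintype.card_units, hF, Nat.cast_sub (Nat.one_le_pow _ _ (q_pos hF))]
  push_cast; ring

open scoped Classical in
/-- The number of isotropic vectors not orthogonal to `x`. -/
theorem sum_ne (hF : Fintype.card F = q ^ 2) {x : Fin 3 → F} (hx0 : x ≠ 0) (hx : hermForm 3 F q x x = 0) :
    ∑ y : Iso F q, (if hermForm 3 F q y.1 x = 0 then (0 : ℂ) else 1) = ((q : ℂ) ^ 2 - 1) * (q : ℂ) ^ 3 := by
  obtain ⟨z, w, h⟩ := exists_hp hF hx0 hx
  rw [sum_param hF h (fun y => if hermForm 3 F q y x = 0 then (0 : ℂ) else 1) (fun y hy => if_pos hy)]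
  have h1 : ∀ (l : Fˣ) (p : F × F), (if hermForm 3 F q ((l : F) • (p.1 • x + p.2 • w + z)) x = 0 then (0 : ℂ) else 1) = 1 := by
    intro l p
    apply if_neg
    rw [herm_smul_left, herm_add_left, herm_add_left, herm_smul_left, herm_smul_left, h.xx, h.wx, h.zx hF]
    simp
  simp only [h1]
  rw [Finset.sum_const, Finset.sum_const, card_PP hF, Finset.card_univ, nsmul_eq_mul, nsmul_eq_mul, card_units hF]
  push_cast; ring

section Chi

variable {χ : MulChar F ℂ}

open scoped Classical in
theorem sum_AA (hF : Fintype.card F = q ^ 2) (hχ : χ ^ (q + 1) = 1) (hχ1 : χ ≠ 1) {x z w : Fin 3 → F} (h : HP q x z w) :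
    ∑ y : Iso F q, χ (hermForm 3 F q y.1 x) * χ (hermForm 3 F q z y.1) =
      ((q : ℂ) ^ 2 - 1) * (-((q : ℂ) * (q - 1)) * eps hF χ) := by
  rw [sum_param hF h (fun y => χ (hermForm 3 F q y x) * χ (hermForm 3 F q z y))
    (fun y hy => by simp only [hy, MulChar.map_zero, zero_mul])]
  have h1 : ∀ (l : Fˣ) (p : F × F), χ (hermForm 3 F q ((l : F) • (p.1 • x + p.2 • w + z)) x) *
      χ (hermForm 3 F q z ((l : F) • (p.1 • x + p.2 • w + z))) = χ (p.1 ^ q) := by
    intro l p
    have h2 : hermForm 3 F q ((l : F) • (p.1 • x + p.2 • w + z)) x = l := by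
      rw [herm_smul_left, herm_add_left, herm_add_left, herm_smul_left, herm_smul_left, h.xx, h.wx, h.zx hF]
      ring
    have h3 : hermForm 3 F q z ((l : F) • (p.1 • x + p.2 • w + z)) = (l : F) ^ q * p.1 ^ q := by
      rw [herm_smul_right, herm_add_right hF, herm_add_right hF, herm_smul_right, herm_smul_right, h.zx hF, h.zw hF, h.zz]
      ring
    rw [h2, h3, ← map_mul, ← mul_assoc, map_mul, chi_norm hχ l.ne_zero, one_mul]
  simp only [h1]
  rw [Finset.sum_const, sum_chi hF hχ hχ1, Finset.card_univ, nsmul_eq_mul, card_units hF]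

end Chi

end Cfsg.Agent.H145.U3Op
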