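import Cfsg.Agent.LieClassical.HermBasic
import Cfsg.Agent.ClassicalGeometry.UnitAutBasic
import Mathlib.NumberTheory.GaussSum

/-!
# Character sums over the Heisenberg coordinates of the unitary group of dimension three

(helper145, for S4898.)
-/

set_option autoImplicit false

namespace Cfsg.Agent.H145.U3Sum

open Cfsg Cfsg.Agent.LieClassical.HermBasic Cfsg.Agent.ClassicalGeometry.UnitAutBasic

variable {F : Type*} [Field F] [Fintype F] {q : ℕ}

open scoped Classical in
/-- The pairs `(α, t)` with `α + α^q + t t^q = 0`. -/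
noncomputable def PP (F : Type*) [Field F] [Fintype F] (q : ℕ) : Finset (F × F) :=
  Finset.univ.filter (fun p => p.1 + p.1 ^ q + p.2 * p.2 ^ q = 0)

open scoped Classical in
/-- The elements of trace zero. -/
noncomputable def T0 (F : Type*) [Field F] [Fintype F] (q : ℕ) : Finset F :=
  Finset.univ.filter (fun α => α + α ^ q = 0)

theorem mem_PP {p : F × F} : p ∈ PP F q ↔ p.1 + p.1 ^ q + p.2 * p.2 ^ q = 0 := by
  classical
  simp [PP]

theorem mem_T0 {α : F} : α ∈ T0 F q ↔ α + α ^ q = 0 := by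
  classical
  simp [T0]

open scoped Classical in
theorem card_norm_filter (hF : Fintype.card F = q ^ 2) {c : F} (hc : c ^ q = c) :
    (Finset.univ.filter (fun t : F => t * t ^ q = c)).card = if c = 0 then 1 else q + 1 := by
  by_cases h0 : c = 0
  · rw [if_pos h0, Finset.card_eq_one]
    refine ⟨0, ?_⟩
    ext t
    rw [Finset.mem_filter, Finset.mem_singleton, h0, norm_eq_zero hF]
    simp
  · rw [if_neg h0, ← card_norm_eq hF hc h0, Nat.card_eq_fintype_card, Fintype.card_subtype]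

open scoped Classical in
theorem sum_PP (hF : Fintype.card F = q ^ 2) (g : F → ℂ) :
    ∑ p ∈ PP F q, g p.1 = ((q : ℂ) + 1) * ∑ α : F, g α - q * ∑ α ∈ T0 F q, g α := by
  have h1 : ∑ p ∈ PP F q, g p.1 = ∑ α : F, ∑ t : F, if t * t ^ q = -(α + α ^ q) then g α else 0 := by
    rw [PP, Finset.sum_filter, Fintype.sum_prod_type]
    refine Finset.sum_congr rfl fun α _ => Finset.sum_congr rfl fun t _ => ?_
    congr 1
    apply propext
    constructor
    · intro h; linear_combination h
    · intro h; linear_combination h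
  rw [h1]
  have h2 : ∀ α : F, (∑ t : F, if t * t ^ q = -(α + α ^ q) then g α else 0) =
      ((q : ℂ) + 1) * g α - q * (if α + α ^ q = 0 then g α else 0) := by
    intro α
    rw [← Finset.sum_filter, Finset.sum_const, card_norm_filter hF (by rw [neg_pow_q hF, trace_pow_q hF]), nsmul_eq_mul]
    by_cases h : α + α ^ q = 0
    · rw [if_pos (by rw [h, neg_zero]), if_pos h]
      push_cast; ring
    · rw [if_neg (fun h' => h (neg_eq_zero.1 h')), if_neg h]
      push_cast; ring
  simp only [h2]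
  rw [Finset.sum_sub_distrib, ← Finset.mul_sum, ← Finset.mul_sum, T0, Finset.sum_filter]

theorem card_T0 (hF : Fintype.card F = q ^ 2) : (T0 F q).card = q := by
  classical
  have h1 := card_fixed hF
  rw [Nat.card_eq_fintype_card, Fintype.card_subtype] at h1
  refine Eq.trans (Finset.card_bij (fun x _ => c0 hF * x) ?_ ?_ ?_).symm h1
  · intro x hx
    rw [Finset.mem_filter] at hx
    rw [mem_T0, mul_pow, c0_pow, hx.2]
    ring
  · intro x _ y _ h
    exact mul_left_cancel₀ (c0_ne_zero hF) h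
  · intro y hy
    rw [mem_T0] at hy
    obtain ⟨a, ha⟩ := exists_c0_mul_norm hF hy
    refine ⟨a * a ^ q, ?_, ha⟩
    rw [Finset.mem_filter]
    exact ⟨Finset.mem_univ _, norm_pow_q hF a⟩

theorem card_PP (hF : Fintype.card F = q ^ 2) : (PP F q).card = q ^ 3 := by
  classical
  have h1 := sum_PP hF (fun _ => (1 : ℂ))
  rw [Finset.sum_const, Finset.sum_const, Finset.sum_const, card_T0 hF, Finset.card_univ, hF] at h1
  have h2 : (((PP F q).card : ℕ) : ℂ) = ((q ^ 3 : ℕ) : ℂ) := by
    simp only [nsmul_eq_mul, mul_one] at h1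
    rw [h1]
    push_cast
    ring
  exact_mod_cast h2

section Chi

variable {χ : MulChar F ℂ}

omit [Fintype F] in
/-- `χ` is trivial on norms. -/
theorem chi_norm (hχ : χ ^ (q + 1) = 1) {a : F} (ha : a ≠ 0) : χ (a * a ^ q) = 1 := by
  have h1 : χ (a * a ^ q) = (χ ^ (q + 1)) a := by
    rw [MulChar.pow_apply' _ (Nat.succ_ne_zero q), map_mul, map_pow, pow_succ, mul_comm]
  rw [h1, hχ, MulChar.one_apply (IsUnit.mk0 a ha)]

/-- The sign `χ(c₀^q)`. -/
noncomputable def eps (hF : Fintype.card F = q ^ 2) (χ : MulChar F ℂ) : ℂ := χ (c0 hF ^ q)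

theorem eps_sq (hF : Fintype.card F = q ^ 2) (hχ : χ ^ (q + 1) = 1) : eps hF χ * eps hF χ = 1 := by
  have h1 : (c0 hF ^ q * c0 hF ^ q) ^ q = c0 hF ^ q * c0 hF ^ q := by
    rw [mul_pow, pow_q_pow_q hF, c0_pow hF]; ring
  obtain ⟨a, ha0, ha⟩ := exists_norm_eq_ne hF h1
    (mul_ne_zero (pow_ne_zero _ (c0_ne_zero hF)) (pow_ne_zero _ (c0_ne_zero hF)))
  rw [eps, ← map_mul, ← ha, chi_norm hχ ha0]

theorem sum_T0 (hF : Fintype.card F = q ^ 2) (hχ : χ ^ (q + 1) = 1) :
    ∑ α ∈ T0 F q, χ (α ^ q) = ((q : ℂ) - 1) * eps hF χ := by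
  classical
  have h0 : (0 : F) ∈ T0 F q := by
    rw [mem_T0, zero_pow_q hF, add_zero]
  have h1 : ∀ α ∈ (T0 F q).erase 0, χ (α ^ q) = eps hF χ := by
    intro α hα
    rw [Finset.mem_erase, mem_T0] at hα
    obtain ⟨a, ha⟩ := exists_c0_mul_norm hF hα.2
    have ha0 : a ≠ 0 := by
      rintro rfl
      apply hα.1
      rw [← ha]; simp
    rw [← ha, mul_pow, norm_pow_q hF, map_mul, chi_norm hχ ha0, mul_one, eps]
  rw [← Finset.add_sum_erase _ _ h0, Finset.sum_congr rfl h1, Finset.sum_const, Finset.card_erase_of_mem h0, card_T0 hF,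
    zero_pow_q hF, MulChar.map_zero, zero_add, nsmul_eq_mul, Nat.cast_sub (by have := q_pos hF; omega)]
  push_cast; ring

/-- **The sum `∑ χ(α^q)` over the Heisenberg coordinates.** -/
theorem sum_chi (hF : Fintype.card F = q ^ 2) (hχ : χ ^ (q + 1) = 1) (hχ1 : χ ≠ 1) :
    ∑ p ∈ PP F q, χ (p.1 ^ q) = -((q : ℂ) * (q - 1)) * eps hF χ := by
  classical
  have h1 := sum_PP hF (fun α => χ (α ^ q))
  rw [h1, sum_T0 hF hχ]
  have h2 : ∑ α : F, χ (α ^ q) = 0 := by
    have h3 : ∀ α : F, χ (α ^ q) = (χ ^ q) α := by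
      intro α
      rw [MulChar.pow_apply' _ (q_pos hF).ne', map_pow]
    simp only [h3]
    apply MulChar.sum_eq_zero_of_ne_one
    intro h4
    apply hχ1
    rw [pow_succ, h4, one_mul] at hχ
    exact hχ
  rw [h2]
  ring

end Chi

end Cfsg.Agent.H145.U3Sum
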